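import Cfsg.Agent.ClassicalMax.OTensor3.Skew
import Cfsg.Agent.ClassicalMax.OTensor.Basic

/-!
A decomposition of a nine-dimensional orthogonal space as a tensor product of two ternary ones: coordinates, the maps
exchanging two decompositions, the stabiliser allowing an exchange of the factors, and normal forms of its elements of
order dividing the characteristic.
-/

set_option autoImplicit false
set_option linter.unusedSectionVars false
set_option linter.style.haveILetI false

namespace Cfsg.Agent.ClassicalMax.OTensor3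

open Module QuadraticMap Cfsg.Agent.Classical Cfsg.Agent.Classical.Quad Cfsg.Agent.ClassicalMax

variable {F U W V : Type*} [Field F] [AddCommGroup U] [Module F U] [AddCommGroup W] [Module F W]
  [AddCommGroup V] [Module F V]

/-- a decomposition into two ternary factors over a field with at least five elements -/
structure Setting (Q : QuadraticForm F V) (QU : QuadraticForm F U) (QW : QuadraticForm F W)
    (pt : U →ₗ[F] W →ₗ[F] V) : Prop extends OTensor.Core Q QU QW pt where
  dimU : finrank F U = 3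
  dimW : finrank F W = 3
  q5 : 5 ≤ Nat.card F

/-- the map carries pure tensors of the first decomposition to pure tensors of the second -/
def Maps {U' W' : Type*} [AddCommGroup U'] [Module F U'] [AddCommGroup W'] [Module F W']
    (pt' : U' →ₗ[F] W' →ₗ[F] V) (pt : U →ₗ[F] W →ₗ[F] V) (g : V ≃ₗ[F] V) : Prop :=
  ∃ (a : U' →ₗ[F] U) (b : W' →ₗ[F] W), ∀ x y, g (pt' x y) = pt (a x) (b y)

section Maps

variable {U' W' U'' W'' : Type*} [AddCommGroup U'] [Module F U'] [AddCommGroup W'] [Module F W']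
  [AddCommGroup U''] [Module F U''] [AddCommGroup W''] [Module F W'']
  {pt : U →ₗ[F] W →ₗ[F] V} {pt' : U' →ₗ[F] W' →ₗ[F] V} {pt'' : U'' →ₗ[F] W'' →ₗ[F] V}

theorem Maps.comp {g g' : V ≃ₗ[F] V} (hg : Maps pt' pt g) (hg' : Maps pt'' pt' g') : Maps pt'' pt (g * g') := by
  obtain ⟨a, b, h⟩ := hg
  obtain ⟨a', b', h'⟩ := hg'
  exact ⟨a.comp a', b.comp b', fun x y => (congrArg g (h' x y)).trans (h _ _)⟩

theorem Maps.flip {g : V ≃ₗ[F] V} (hg : Maps pt' pt g) : Maps pt'.flip pt.flip g := by
  obtain ⟨a, b, h⟩ := hg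
  exact ⟨b, a, fun x y => h y x⟩

theorem maps_one : Maps pt pt (1 : V ≃ₗ[F] V) := ⟨LinearMap.id, LinearMap.id, fun _ _ => rfl⟩

end Maps

/-- preserving the decomposition, or exchanging its factors -/
def InS (pt : U →ₗ[F] W →ₗ[F] V) (g : V ≃ₗ[F] V) : Prop := Maps pt pt g ∨ Maps pt.flip pt g

theorem InS.mul {pt : U →ₗ[F] W →ₗ[F] V} {g g' : V ≃ₗ[F] V} (hg : InS pt g) (hg' : InS pt g') : InS pt (g * g') := by
  rcases hg with hg | hg <;> rcases hg' with hg' | hg'
  · exact Or.inl (hg.comp hg')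
  · exact Or.inr (hg.comp hg')
  · exact Or.inr (hg.comp hg'.flip)
  · exact Or.inl (hg.comp hg'.flip)

theorem inS_flip {pt : U →ₗ[F] W →ₗ[F] V} (g : V ≃ₗ[F] V) : InS pt.flip g ↔ InS pt g := by
  constructor
  · rintro (h | h)
    · exact Or.inl h.flip
    · exact Or.inr h.flip
  · rintro (h | h)
    · exact Or.inl h.flip
    · exact Or.inr h.flip

/-- the stabiliser of the decomposition among the isometries -/
def NS [Finite F] [FiniteDimensional F V] (Q : QuadraticForm F V) (pt : U →ₗ[F] W →ₗ[F] V) : Subgroup (oG Q) where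
  carrier := {g | InS pt g.1}
  one_mem' := Or.inl maps_one
  mul_mem' := fun {g g'} hg hg' => hg.mul hg'
  inv_mem' := fun {g} hg => by
    haveI : Finite V := Module.finite_of_finite F
    haveI : Finite (V ≃ₗ[F] V) := Finite.of_injective (fun g : V ≃ₗ[F] V => (g : V → V)) DFunLike.coe_injective
    haveI : Finite (oG Q) := Subtype.finite
    let M : Submonoid (oG Q) := ⟨⟨{g | InS pt g.1}, fun {g g'} hg hg' => hg.mul hg'⟩, Or.inl maps_one⟩
    obtain ⟨n, hn⟩ := Nat.exists_eq_succ_of_ne_zero (orderOf_pos g).ne'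
    have e : g⁻¹ = g ^ n := inv_eq_of_mul_eq_one_right (by rw [← pow_succ', ← Nat.succ_eq_add_one, ← hn, pow_orderOf_eq_one])
    rw [e]
    exact M.pow_mem (x := g) hg n

theorem mem_NS [Finite F] [FiniteDimensional F V] {Q : QuadraticForm F V} {pt : U →ₗ[F] W →ₗ[F] V} {g : oG Q} :
    g ∈ NS Q pt ↔ InS pt g.1 := Iff.rfl

variable [Finite F] [FiniteDimensional F U] [FiniteDimensional F W] [FiniteDimensional F V]
  {Q : QuadraticForm F V} {QU : QuadraticForm F U} {QW : QuadraticForm F W} {pt : U →ₗ[F] W →ₗ[F] V}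

namespace Setting

variable (hS : Setting Q QU QW pt)
include hS

theorem flip : Setting Q QW QU pt.flip where
  two := hS.two
  nd := hS.nd
  ndU := hS.ndW
  ndW := hS.ndU
  prod := fun w u w' u' => by
    rw [LinearMap.flip_apply, LinearMap.flip_apply, hS.prod, mul_comm]
  span := by
    rw [eq_top_iff, ← hS.span, Submodule.span_le]
    rintro _ ⟨p, rfl⟩
    exact Submodule.subset_span ⟨(p.2, p.1), rfl⟩
  lift := fun a b => by
    obtain ⟨g, hg⟩ := hS.lift b a
    exact ⟨g, fun x y => hg y x⟩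
  dimU := hS.dimW
  dimW := hS.dimU
  q5 := hS.q5

theorem triU : Tri QU := ⟨hS.two, hS.ndU, hS.dimU, hS.q5⟩

theorem triW : Tri QW := ⟨hS.two, hS.ndW, hS.dimW, hS.q5⟩

theorem pU_smul (c : F) (u : U) (z : V) : hS.pU (c • u) z = c • hS.pU u z := hS.eqW fun w => by
  rw [hS.polar_pU, polar_smul_left, hS.polar_pU, map_smul, LinearMap.smul_apply, polar_smul_left]

theorem pU_add (u u' : U) (z : V) : hS.pU (u + u') z = hS.pU u z + hS.pU u' z := hS.eqW fun w => by
  rw [hS.polar_pU, polar_add_left, hS.polar_pU, hS.polar_pU, map_add, LinearMap.add_apply, polar_add_left]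

/-- coordinates with respect to a frame of the first factor -/
theorem decompV {e f h : U} (fr : Fr QU e f h) (z : V) :
    z = pt e (hS.pU f z) + pt f (hS.pU e z) + pt h ((2 * QU h)⁻¹ • hS.pU h z) := by
  refine LinearMap.congr_fun (f := LinearMap.id) (g := (pt e).comp (hS.pU f) + (pt f).comp (hS.pU e) +
    (pt h).comp ((2 * QU h)⁻¹ • hS.pU h)) (hS.ext_pure fun x y => ?_) z
  simp only [LinearMap.id_apply, LinearMap.add_apply, LinearMap.comp_apply, LinearMap.smul_apply, hS.pU_pt, smul_smul]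
  rw [map_smul, map_smul, map_smul]
  conv_lhs => rw [fr.decomp hS.triU x, map_add, map_add, map_smul, map_smul, map_smul, LinearMap.add_apply,
    LinearMap.add_apply, LinearMap.smul_apply, LinearMap.smul_apply, LinearMap.smul_apply, div_eq_inv_mul]

/-- isometries agreeing on the three parts of a frame are equal -/
theorem ext_frame {e f h : U} (fr : Fr QU e f h) {g g' : oG Q} (h1 : ∀ y, g.1 (pt e y) = g'.1 (pt e y))
    (h2 : ∀ y, g.1 (pt f y) = g'.1 (pt f y)) (h3 : ∀ y, g.1 (pt h y) = g'.1 (pt h y)) : g = g' :=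
  ext_oG fun z => by rw [hS.decompV fr z]; simp only [map_add, h1, h2, h3]

theorem pt_inj {u : U} (hu : u ≠ 0) {y y' : W} (he : pt u y = pt u y') : y = y' := by
  obtain ⟨x, hx⟩ : ∃ x, polar QU x u ≠ 0 := by
    by_contra hc
    push Not at hc
    exact hu (hS.ndU.2 u fun x => hc x)
  have h1 := congrArg (hS.pU x) he
  rw [hS.pU_pt, hS.pU_pt] at h1
  exact smul_right_injective W hx h1

/-- a unipotent element of the first factor -/
noncomputable def uL {e f h : U} (fr : Fr QU e f h) (t : F) : oG Q := hS.lp (tr3 fr t, 1)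

theorem uL_mem {H : Subgroup (oG Q)} (hO : OTensor.Over pt H) {e f h : U} (fr : Fr QU e f h) (t : F) :
    hS.uL fr t ∈ H := hO.lp_memC hS.toCore (tr3_mem fr hS.triU t) (one_mem _)

theorem uL_add {e f h : U} (fr : Fr QU e f h) (s t : F) : hS.uL fr s * hS.uL fr t = hS.uL fr (s + t) := by
  rw [uL, uL, uL, ← map_mul, Prod.mk_mul_mk, tr3_add, mul_one]

theorem uL_zero {e f h : U} (fr : Fr QU e f h) : hS.uL fr 0 = 1 := by
  rw [uL, tr3_zero, Prod.mk_one_one, map_one]

theorem uL_pt {e f h : U} (fr : Fr QU e f h) (t : F) (x : U) (y : W) :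
    (hS.uL fr t).1 (pt x y) = pt ((tr3 fr t).1 x) y := by rw [uL, hS.lp_pt]; rfl

theorem uL_e {e f h : U} (fr : Fr QU e f h) (t : F) (y : W) : (hS.uL fr t).1 (pt e y) = pt e y := by
  rw [hS.uL_pt, tr3_e]

theorem uL_h {e f h : U} (fr : Fr QU e f h) (t : F) (y : W) :
    (hS.uL fr t).1 (pt h y) = pt h y + (2 * QU h * t) • pt e y := by
  rw [hS.uL_pt, tr3_h, map_add, map_smul, LinearMap.add_apply, LinearMap.smul_apply]

theorem uL_f {e f h : U} (fr : Fr QU e f h) (t : F) (y : W) :
    (hS.uL fr t).1 (pt f y) = pt f y - (QU h * t * t) • pt e y - t • pt h y := by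
  rw [hS.uL_pt, tr3_f]
  simp only [map_sub, map_smul, LinearMap.sub_apply, LinearMap.smul_apply]

theorem uL_apply {e f h : U} (fr : Fr QU e f h) (t : F) (z : V) : (hS.uL fr t).1 z =
    z + t • (pt e (hS.pU h z) - pt h (hS.pU e z)) + t ^ 2 • ((-QU h) • pt e (hS.pU e z)) := by
  have hne := fr.two_mul_ne hS.triU
  conv_lhs => rw [hS.decompV fr z, map_add, map_add, hS.uL_e, hS.uL_f, hS.uL_h]
  conv_rhs => arg 1; arg 1; rw [hS.decompV fr z]
  rw [map_smul (pt e), map_smul (pt h)]
  match_scalars <;> field_simp <;> rw [mul_div_cancel_left₀ _ hne]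

/-- the fixed space of a non-trivial unipotent element of the first factor -/
theorem uL_fixed {e f h : U} (fr : Fr QU e f h) {t : F} (ht : t ≠ 0) {z : V} (hz : (hS.uL fr t).1 z = z) :
    z = pt e (hS.pU f z) := by
  rw [hS.uL_apply fr] at hz
  have hne := fr.two_mul_ne hS.triU
  have h1 := congrArg (hS.pU f) hz
  have h2 := congrArg (hS.pU h) hz
  simp only [map_add, map_sub, map_smul, hS.pU_pt, fr.vals.2.2.1, fr.vals.2.2.2.1, fr.vals.2.2.2.2.1, fr.hfh,
    one_smul, zero_smul, smul_zero, sub_zero, zero_sub, add_zero, smul_neg, smul_smul] at h1 h2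
  have k2 : hS.pU e z = 0 := by
    have h3 : (-(t * (2 * QU h))) • hS.pU e z = 0 := by linear_combination (norm := module) h2
    exact (smul_eq_zero.1 h3).resolve_left (neg_ne_zero.2 (mul_ne_zero ht hne))
  have k1 : hS.pU h z = 0 := by
    rw [k2, smul_zero, add_zero, add_eq_left] at h1
    exact (smul_eq_zero.1 h1).resolve_left ht
  conv_lhs => rw [hS.decompV fr z, k2, k1, smul_zero, map_zero, map_zero, add_zero, add_zero]

theorem lp_pow (a : oG QU) (b : oG QW) (n : ℕ) : hS.lp (a, b) ^ n = hS.lp (a ^ n, b ^ n) :=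
  (map_pow hS.lp (a, b) n).symm

section CharP

variable {p : ℕ} [hp : Fact p.Prime] [CharP F p]

/-- the action of the two factors is faithful on elements of order dividing the characteristic -/
theorem lp_inj {a a' : oG QU} {b b' : oG QW} (ha : a ^ p = 1) (ha' : a' ^ p = 1) (he : hS.lp (a, b) = hS.lp (a', b')) :
    a = a' ∧ b = b' := by
  obtain ⟨e₂, f₂, h₂, fr₂⟩ := exists_fr hS.triW
  obtain ⟨e, f, h, fr⟩ := exists_fr hS.triU
  have h1 : ∀ x y, pt (a.1 x) (b.1 y) = pt (a'.1 x) (b'.1 y) := fun x y => by rw [← hS.lp_pt, he, hS.lp_pt]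
  have h2 : ∀ x, (2 * QW h₂) • a.1 x = polar QW (b.1 h₂) (b'.1 h₂) • a'.1 x := fun x => by
    have := congrArg (hS.pW (b.1 h₂)) (h1 x h₂)
    rwa [hS.pW_pt, hS.pW_pt, polar_oG, polar_self'] at this
  set r := polar QW (b.1 h₂) (b'.1 h₂) / (2 * QW h₂)
  have hr : ∀ x, a.1 x = r • a'.1 x := fun x => by
    rw [← inv_smul_smul₀ (fr₂.two_mul_ne hS.triW) (a.1 x), h2, smul_smul, mul_comm, ← div_eq_mul_inv]
  have hn : ∀ (n : ℕ) (x : U), (a ^ n).1 x = r ^ n • (a' ^ n).1 x := fun n => by
    induction n with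
    | zero => intro x; rw [pow_zero, pow_zero, pow_zero, one_smul]
    | succ n ih => intro x; rw [pow_succ' a, pow_succ' a', oG_mul_apply, oG_mul_apply, ih, map_smul, hr, smul_smul, ← pow_succ]
  have hr1 : r = 1 := by
    have := hn p e
    rw [ha, ha', oG_one_apply] at this
    refine sq_one_of_pow hS.triU (smul_left_injective F fr.e_ne ?_)
    show r ^ p • e = (1 : F) • e
    rw [one_smul, ← this]
  have hA : a = a' := ext_oG fun x => by rw [hr, hr1, one_smul]
  refine ⟨hA, ext_oG fun y => ?_⟩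
  exact hS.pt_inj (fun e' => fr.e_ne (a.1.injective (by rw [e', map_zero]))) ((h1 e y).trans (by rw [hA]))

theorem lp_eq_one {a : oG QU} {b : oG QW} (ha : a ^ p = 1) (he : hS.lp (a, b) = 1) : a = 1 ∧ b = 1 := by
  refine hS.lp_inj (p := p) ha (one_pow p) ?_
  rw [he, Prod.mk_one_one, map_one]

/-- an element exchanging the factors is not one preserving them, so has even order -/
theorem not_swap {g : oG Q} (hg : g ^ p = 1) : ¬ Maps pt.flip pt g.1 := by
  intro h
  obtain ⟨m, hm⟩ := odd_char (F := F) (p := p) hS.triU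
  have key : ∀ n : ℕ, Maps pt.flip pt (g ^ (2 * n + 1)).1 := fun n => by
    induction n with
    | zero => simpa using h
    | succ n ih =>
      rw [show 2 * (n + 1) + 1 = (2 * n + 1) + 1 + 1 by ring, pow_succ, pow_succ, mul_assoc]
      exact ih.comp (Maps.comp h.flip h)
  have h1 := key m
  rw [← hm, hg] at h1
  obtain ⟨a, b, hab⟩ := h1
  obtain ⟨e, f, hU, fr⟩ := exists_fr hS.triU
  obtain ⟨e₂, f₂, h₂, fr₂⟩ := exists_fr hS.triW
  have h2 : ∀ y : W, y = polar QU f (a y) • b e := fun y => by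
    have h3 : pt e y = pt (a y) (b e) := hab y e
    have := congrArg (hS.pU f) h3
    rwa [hS.pU_pt, hS.pU_pt, fr.vals.2.2.2.1, one_smul] at this
  have k1 := h2 e₂
  have k2 := h2 h₂
  rcases eq_or_ne (polar QU f (a e₂)) 0 with e0 | e0
  · exact fr₂.e_ne (by rw [k1, e0, zero_smul])
  · have := fr₂.hh
    apply this
    rw [k2, show b e = (polar QU f (a e₂))⁻¹ • e₂ by
      conv_rhs => arg 2; rw [k1]
      rw [inv_smul_smul₀ e0],
      smul_smul, Quad.map_smul', fr₂.he, mul_zero]

/-- an element of order dividing the characteristic preserving the decomposition is a pair of such elements -/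
theorem split {g : oG Q} (hg : Maps pt pt g.1) (hgp : g ^ p = 1) :
    ∃ (a : oG QU) (b : oG QW), a ^ p = 1 ∧ b ^ p = 1 ∧ g = hS.lp (a, b) := by
  obtain ⟨a, b, hab⟩ := hg
  obtain ⟨e, f, h, fr⟩ := exists_fr hS.triU
  obtain ⟨e₂, f₂, h₂, fr₂⟩ := exists_fr hS.triW
  have hne := fr.two_mul_ne hS.triU
  have hne₂ := fr₂.two_mul_ne hS.triW
  have hpol : ∀ x x' y y', polar QU (a x) (a x') * polar QW (b y) (b y') = polar QU x x' * polar QW y y' :=
    fun x x' y y' => by rw [← hS.prod, ← hab, ← hab, polar_oG, hS.prod]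
  set ν := polar QW (b h₂) (b h₂) / (2 * QW h₂) with hν
  have hU : ∀ x x', polar QU (a x) (a x') * ν = polar QU x x' := fun x x' => by
    rw [hν, ← mul_div_assoc, hpol, polar_self' h₂, mul_div_assoc, div_self hne₂, mul_one]
  have hν0 : ν ≠ 0 := fun e0 => one_ne_zero (α := F) (by rw [← fr.hef, ← hU, e0, mul_zero])
  have hW : ∀ y y', polar QW (b y) (b y') = ν * polar QW y y' := fun y y' => by
    have h1 := hpol e f y y'
    have h2 := hU e f
    rw [fr.hef, one_mul] at h1
    rw [fr.hef] at h2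
    have h3 : polar QU (a e) (a f) ≠ 0 := fun e0 => one_ne_zero (α := F) (by rw [← h2, e0, zero_mul])
    exact mul_left_cancel₀ h3 (by rw [h1, ← mul_assoc, h2, one_mul])
  let an : Module.End F U := a
  let bn : Module.End F W := b
  have hpow : ∀ (n : ℕ) x y, (g ^ n).1 (pt x y) = pt ((an ^ n) x) ((bn ^ n) y) := fun n => by
    induction n with
    | zero => intro x y; rfl
    | succ n ih => intro x y; rw [pow_succ', pow_succ', pow_succ', oG_mul_apply, ih, hab]; rfl
  set l := polar QW h₂ ((bn ^ p) h₂) / (2 * QW h₂) with hl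
  have hap : ∀ x, l • (an ^ p) x = x := fun x => by
    have h1 := hpow p x h₂
    rw [hgp, oG_one_apply] at h1
    have := congrArg (hS.pW h₂) h1
    rw [hS.pW_pt, hS.pW_pt, polar_self'] at this
    rw [hl, div_eq_inv_mul, ← smul_smul, ← this, inv_smul_smul₀ hne₂]
  haveI : ExpChar F p := ExpChar.prime hp.out
  obtain ⟨c, hc⟩ := Finite.surjective_of_injective (frobenius_inj F p) l
  have hc : c ^ p = l := hc
  have hl0 : l ≠ 0 := fun e0 => fr.e_ne (by rw [← hap e, e0, zero_smul])
  have hc0 : c ≠ 0 := fun e0 => hl0 (by rw [← hc, e0, zero_pow hp.out.ne_zero])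
  have hp1 : ∀ x, ((c • an) ^ p) x = x := fun x => by
    rw [smul_pow, LinearMap.smul_apply, hc, hap]
  have hp2 : ∀ y, ((c⁻¹ • bn) ^ p) y = y := fun y => by
    have h1 := hpow p e y
    rw [hgp, oG_one_apply] at h1
    have h2 : (an ^ p) e = l⁻¹ • e := by rw [← inv_smul_smul₀ hl0 ((an ^ p) e), hap]
    rw [h2, map_smul, LinearMap.smul_apply, ← map_smul] at h1
    rw [smul_pow, LinearMap.smul_apply, inv_pow, hc]
    exact (hS.pt_inj fr.e_ne h1).symm
  -- the factor of similitude is one
  have hμn : ∀ (n : ℕ) x x', polar QU (((c • an) ^ n) x) (((c • an) ^ n) x') * (ν / (c * c)) ^ n = polar QU x x' := by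
    intro n
    induction n with
    | zero => intro x x'; simp
    | succ n ih =>
      intro x x'
      rw [pow_succ', Module.End.mul_apply, Module.End.mul_apply, LinearMap.smul_apply, LinearMap.smul_apply,
        polar_smul_left, polar_smul_right, smul_eq_mul, smul_eq_mul, pow_succ]
      have := hU (((c • an) ^ n) x) (((c • an) ^ n) x')
      rw [← ih x x', ← this]
      show c * (c * polar QU (a _) (a _)) * _ = _
      field_simp
  have hμ : ν = c * c := by
    have h1 := hμn p e f
    rw [hp1, hp1, fr.hef, one_mul] at h1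
    have h2 := sq_one_of_pow hS.triU h1
    rwa [div_eq_one_iff_eq (mul_ne_zero hc0 hc0)] at h2
  have ai : Function.Injective (c • an) := fun x x' hxx => by
    obtain ⟨n, hn⟩ := Nat.exists_eq_succ_of_ne_zero hp.out.ne_zero
    rw [← hp1 x, ← hp1 x', hn, pow_succ, Module.End.mul_apply, Module.End.mul_apply, hxx]
  have bi : Function.Injective (c⁻¹ • bn) := fun x x' hxx => by
    obtain ⟨n, hn⟩ := Nat.exists_eq_succ_of_ne_zero hp.out.ne_zero
    rw [← hp2 x, ← hp2 x', hn, pow_succ, Module.End.mul_apply, Module.End.mul_apply, hxx]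
  have hA : LinearEquiv.ofInjectiveEndo (c • an) ai ∈ oG QU := fun x => by
    have h1 := hU x x
    rw [polar_self', polar_self'] at h1
    show QU (c • a x) = QU x
    rw [Quad.map_smul']
    exact mul_left_cancel₀ hS.two (by rw [hμ] at h1; linear_combination h1)
  have hB : LinearEquiv.ofInjectiveEndo (c⁻¹ • bn) bi ∈ oG QW := fun y => by
    have h1 := hW y y
    rw [polar_self', polar_self', hμ] at h1
    show QW (c⁻¹ • b y) = QW y
    rw [Quad.map_smul']
    refine mul_left_cancel₀ hS.two ?_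
    field_simp
    linear_combination h1
  refine ⟨⟨_, hA⟩, ⟨_, hB⟩, ?_, ?_, ?_⟩
  · refine ext_oG fun x => ?_
    have : ∀ n : ℕ, ((⟨_, hA⟩ : oG QU) ^ n).1 x = ((c • an) ^ n) x := fun n => by
      induction n with
      | zero => rfl
      | succ n ih => rw [pow_succ', pow_succ', oG_mul_apply, ih]; rfl
    rw [this, hp1, oG_one_apply]
  · refine ext_oG fun x => ?_
    have : ∀ n : ℕ, ((⟨_, hB⟩ : oG QW) ^ n).1 x = ((c⁻¹ • bn) ^ n) x := fun n => by
      induction n with
      | zero => rfl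
      | succ n ih => rw [pow_succ', pow_succ', oG_mul_apply, ih]; rfl
    rw [this, hp2, oG_one_apply]
  · refine ext_oG fun z => ?_
    refine LinearMap.congr_fun (f := (g.1 : V →ₗ[F] V)) (g := ((hS.lp (⟨_, hA⟩, ⟨_, hB⟩)).1 : V →ₗ[F] V))
      (hS.ext_pure fun x y => ?_) z
    rw [LinearEquiv.coe_coe, LinearEquiv.coe_coe, hS.lp_pt, hab]
    show pt (a x) (b y) = pt (c • a x) (c⁻¹ • b y)
    rw [map_smul, map_smul, LinearMap.smul_apply, smul_smul, inv_mul_cancel₀ hc0, one_smul]

end CharP

end Setting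

end Cfsg.Agent.ClassicalMax.OTensor3
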