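import Cfsg.Agent.ClassicalMax.OTensor3.Invariant
import Cfsg.Agent.ClassicalMax.OTensor.Bridge
import Cfsg.Agent.ClassicalMax.ExtOrth3.Deg3.Bridge
import Cfsg.Agent.Asch.Wreath
import Cfsg.Agent.Asch.Transport

/-!
The stabiliser of a decomposition of a nine-dimensional orthogonal space as a tensor square of a ternary one is
maximal in the commutator subgroup.
-/

set_option autoImplicit false
set_option linter.unusedSectionVars false
set_option linter.style.haveILetI false

namespace Cfsg.Agent.ClassicalMax.OTensor3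

open Module Matrix QuadraticMap Cfsg.Geo Cfsg.Agent.Classical Cfsg.Agent.Classical.Quad Cfsg.Agent.ClassicalMax
open scoped MatrixGroups

variable {F : Type*} [Field F] [Fintype F]

/-- maximality from a setting -/
theorem isMaximal_of_setting {U W : Type*} [AddCommGroup U] [Module F U] [FiniteDimensional F U] [AddCommGroup W]
    [Module F W] [FiniteDimensional F W] {ι : Type} [Fintype ι] [DecidableEq ι] {Q : QuadraticForm F (ι → F)}
    {QU : QuadraticForm F U} {QW : QuadraticForm F W} {pt : U →ₗ[F] W →ₗ[F] (ι → F)}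
    (hS : Setting Q QU QW pt) (hn : 5 ≤ Fintype.card ι) (S : Subgroup (GL ι F))
    (hK : ∀ g : oG Q, (glEquiv ι F).symm g.1 ∈ S ↔ InS pt g.1) :
    IsMaximalIn (omegaGL ⇑Q) (S ⊓ omegaGL ⇑Q) := by
  classical
  refine ExtOrth3.Deg3.isMaximalIn_omega_le Q hS.nd hn S ?_ fun H hle hH g hg hgS => ?_
  · obtain ⟨e, f, h, fr⟩ := exists_fr hS.triU
    obtain ⟨e₂, f₂, h₂, fr₂⟩ := exists_fr hS.triW
    obtain ⟨p, hp⟩ := CharP.exists F
    haveI := hp
    have hpp : p.Prime := (CharP.char_is_prime_or_zero F p).resolve_right fun e => by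
      subst e
      haveI := CharP.charP_to_charZero F
      exact not_finite F
    haveI := Fact.mk hpp
    have hp0 := hS.pure_sing fr.he h₂
    have hpw : polar Q (pt e h₂) (pt e e₂) = 0 := by rw [hS.prod, fr.vals.1, zero_mul]
    set o := sO hp0 hpw
    refine ⟨o, sO_mem_commutator hS.nd (Or.inr (by rw [Module.finrank_fintype_fun_eq_card]; omega)) _ _, fun hm => ?_⟩
    have ho : ∀ z, o.1 z = z + pt e (dl QW e₂ h₂ (hS.pU e z)) := fun z => by
      have hz : ∀ w, polar Q z (pt e w) = polar QW w (hS.pU e z) := fun w => by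
        rw [polar_comm Q z, ← hS.polar_pU, polar_comm QW w]
      rw [sO_apply, hS.pure_sing fr.he e₂, hz, hz, dl_apply, map_sub, map_smul, map_smul]
      module
    have hpow : ∀ (n : ℕ) z, (o ^ n).1 z = z + (n : F) • pt e (dl QW e₂ h₂ (hS.pU e z)) := fun n => by
      induction n with
      | zero => intro z; simp [oG_one_apply]
      | succ n ih =>
        intro z
        rw [pow_succ, oG_mul_apply, ih, ho, map_add (hS.pU e), hS.pU_pt, fr.vals.1, zero_smul, add_zero, Nat.cast_succ]
        module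
    have hop : o ^ p = 1 := ext_oG fun z => by rw [hpow, CharP.cast_eq_zero F p, zero_smul, add_zero, oG_one_apply]
    obtain ⟨a, b, hab⟩ := Or.resolve_right ((hK o).1 hm) (hS.not_swap (p := p) hop)
    have h1 : ∀ y, y = polar QU e (a f) • b y ∧ dl QW e₂ h₂ y = polar QU f (a f) • b y := fun y => by
      have h2 : pt (a f) (b y) = pt f y + pt e (dl QW e₂ h₂ y) := by
        rw [← hab, ho, hS.pU_pt, fr.hef, one_smul]
      have e1 := congrArg (hS.pU e) h2
      have e2 := congrArg (hS.pU f) h2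
      rw [map_add, hS.pU_pt, hS.pU_pt, hS.pU_pt, fr.hef, fr.vals.1, zero_smul, one_smul, add_zero] at e1
      rw [map_add, hS.pU_pt, hS.pU_pt, hS.pU_pt, fr.vals.2.2.2.1, fr.vals.2.1, zero_smul, one_smul, zero_add] at e2
      exact ⟨e1.symm, e2.symm⟩
    obtain ⟨-, k2, -⟩ := dl1_vals fr₂
    have hne : polar QU e (a f) ≠ 0 := fun e0 => fr₂.e_ne (by rw [(h1 e₂).1, e0, zero_smul])
    have h3 : h₂ = (polar QU f (a f) / polar QU e (a f)) • f₂ := by
      conv_lhs => rw [← k2]
      conv_rhs => arg 2; rw [(h1 f₂).1]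
      rw [(h1 f₂).2, smul_smul, div_mul_cancel₀ _ hne]
    exact fr₂.hh (by rw [h3, Quad.map_smul', fr₂.hf, mul_zero])
  · by_cases hL : NoRoot pt QU H
    · by_cases hR : NoRoot pt.flip QW H
      · exfalso
        have hh : Hyp Q QU QW pt H := ⟨hS, hle, fun g hg hN => hH g hg ((hK g).2 hN), hL, hR⟩
        exact hgS ((hK g).2 (hh.ns_all hg))
      · exact hS.flip.eo_of_root (fun g hg hN => hH g hg ((hK g).2 ((inS_flip g.1).1 (Or.inl hN))))
          (fun g hg hN => hH g hg ((hK g).2 (Or.inl hN))) hR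
    · exact hS.eo_of_root (fun g hg hN => hH g hg ((hK g).2 (Or.inl hN)))
        (fun g hg hN => hH g hg ((hK g).2 ((inS_flip g.1).1 (Or.inl hN)))) hL

section Wreath

variable {ι : Type} [Fintype ι] [DecidableEq ι]

/-- the pair decomposition of a square decomposition -/
def pairEquiv (e : ι ≃ (Fin 2 → Fin 3)) : ι ≃ Fin 3 × Fin 3 := e.trans (finTwoArrowEquiv _)

theorem pureT_pair (e : ι ≃ (Fin 2 → Fin 3)) (P : GL ι F) (u w : Fin 3 → F) :
    NotMax.pureT (pairEquiv e) P u w = Asch.frL e P (fun z => ∏ j, ![u, w] j (z j)) := by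
  rw [NotMax.pureT_apply]
  show _ = (P : Matrix ι ι F) *ᵥ _
  congr 1
  funext i
  simp [pairEquiv, Fin.prod_univ_two]

theorem fr_pure (e : ι ≃ (Fin 2 → Fin 3)) (P : GL ι F) (k : GL (Fin 2 → Fin 3) F) (u w : Fin 3 → F) :
    glEquiv ι F (Asch.fr e P k) (NotMax.pureT (pairEquiv e) P u w) =
      Asch.frL e P ((k : Matrix (Fin 2 → Fin 3) (Fin 2 → Fin 3) F) *ᵥ fun z => ∏ j, ![u, w] j (z j)) := by
  rw [pureT_pair, glEquiv_apply]
  exact Asch.fr_mulVec e P k _

/-- the square wreath is the stabiliser allowing an exchange of the factors -/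
theorem mem_wreath_iff (e : ι ≃ (Fin 2 → Fin 3)) (P : GL ι F) (g : (ι → F) ≃ₗ[F] (ι → F)) :
    (glEquiv ι F).symm g ∈ tensorWreathSubgroup 3 2 e P ↔ InS (NotMax.pureT (pairEquiv e) P) g := by
  classical
  set pt := NotMax.pureT (pairEquiv e) P
  have himg : ∀ k : GL (Fin 2 → Fin 3) F, k ∈ tensorWreathStandard 3 2 F →
      InS pt (glEquiv ι F (Asch.fr e P k)) := by
    haveI : Finite (GL (Fin 2 → Fin 3) F) := inferInstance
    let M : Submonoid (GL (Fin 2 → Fin 3) F) :=
      { carrier := {k | InS pt (glEquiv ι F (Asch.fr e P k))}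
        one_mem' := by
          show InS pt _
          rw [map_one, map_one]
          exact Or.inl maps_one
        mul_mem' := fun {a b} ha hb => by
          show InS pt _
          rw [map_mul, map_mul]
          exact InS.mul ha hb }
    let G : Subgroup (GL (Fin 2 → Fin 3) F) :=
      { M with
        inv_mem' := fun {a} ha => by
          obtain ⟨n, hn⟩ := Nat.exists_eq_succ_of_ne_zero (orderOf_pos a).ne'
          have e1 : a⁻¹ = a ^ n := inv_eq_of_mul_eq_one_right (by
            rw [← pow_succ', ← Nat.succ_eq_add_one, ← hn, pow_orderOf_eq_one])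
          rw [e1]
          exact M.pow_mem (x := a) ha n }
    refine fun k hk => (Subgroup.closure_le G).2 ?_ hk
    rintro x (⟨gs, hgs⟩ | ⟨σ, hσ⟩)
    · refine Or.inl ⟨Matrix.mulVecLin (gs 0 : Matrix (Fin 3) (Fin 3) F), Matrix.mulVecLin (gs 1 : Matrix (Fin 3) (Fin 3) F),
        fun u w => ?_⟩
      rw [fr_pure, pureT_pair]
      congr 1
      funext z
      have h1 : ∀ a : Fin 2 → Fin 3 → F, ((x : Matrix (Fin 2 → Fin 3) (Fin 2 → Fin 3) F) *ᵥ fun z => ∏ j, a j (z j)) z =
          ∏ j, ((gs j : Matrix (Fin 3) (Fin 3) F) *ᵥ a j) (z j) := fun a => by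
        simp only [mulVec, dotProduct, hgs, ← Finset.prod_mul_distrib]
        exact (Fintype.prod_sum fun j l => (gs j : Matrix (Fin 3) (Fin 3) F) (z j) l * a j l).symm
      rw [h1, Fin.prod_univ_two, Fin.prod_univ_two]
      rfl
    · have h1 : ∀ (a : Fin 2 → Fin 3 → F) z,
          ((x : Matrix (Fin 2 → Fin 3) (Fin 2 → Fin 3) F) *ᵥ fun z => ∏ j, a j (z j)) z = ∏ j, a j (z (σ j)) :=
        fun a z => by simp [mulVec, dotProduct, hσ]
      obtain rfl | rfl : σ = 1 ∨ σ = Equiv.swap 0 1 :=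
        (by decide : ∀ σ : Equiv.Perm (Fin 2), σ = 1 ∨ σ = Equiv.swap 0 1) σ
      · refine Or.inl ⟨LinearMap.id, LinearMap.id, fun u w => ?_⟩
        rw [fr_pure, pureT_pair]
        congr 1
        funext z
        rw [h1]
        rfl
      · refine Or.inr ⟨LinearMap.id, LinearMap.id, fun w u => ?_⟩
        show glEquiv ι F (Asch.fr e P x) (pt u w) = pt w u
        rw [fr_pure, pureT_pair]
        congr 1
        funext z
        rw [h1, Fin.prod_univ_two, Fin.prod_univ_two]
        simp [mul_comm]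
  have hpure : ∀ (A B : GL (Fin 3) F) u w, glEquiv ι F (Asch.fr e P (Asch.pureU ![A, B])) (pt u w) =
      pt ((A : Matrix (Fin 3) (Fin 3) F) *ᵥ u) ((B : Matrix (Fin 3) (Fin 3) F) *ᵥ w) := fun A B u w => by
    rw [fr_pure, pureT_pair]
    congr 1
    funext z
    simp only [Asch.pureU, Asch.pureM, mulVec, dotProduct, Matrix.of_apply, ← Finset.prod_mul_distrib]
    rw [← Fintype.prod_sum fun j l => (PrimeDim.mat (![A, B] j)) (z j) l * ![u, w] j l, Fin.prod_univ_two,
      Fin.prod_univ_two]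
    rfl
  have hmaps : ∀ g, Maps pt pt g → ∃ A B : GL (Fin 3) F, glEquiv ι F (Asch.fr e P (Asch.pureU ![A, B])) = g := by
    rintro g ⟨a, b, hab⟩
    have ha : Function.Injective a := (injective_iff_map_eq_zero a).2 fun x hx => by
      have h0 : g (pt x (fun _ => 1)) = 0 := by rw [hab, hx, map_zero, LinearMap.zero_apply]
      exact (OTensor.pureT_eq_zero _ P ((LinearEquiv.map_eq_zero_iff g).1 h0)).resolve_right
        fun e' => one_ne_zero (congrFun e' 0)
    have hb : Function.Injective b := (injective_iff_map_eq_zero b).2 fun y hy => by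
      have h0 : g (pt (fun _ => 1) y) = 0 := by rw [hab, hy, map_zero]
      exact (OTensor.pureT_eq_zero _ P ((LinearEquiv.map_eq_zero_iff g).1 h0)).resolve_left
        fun e' => one_ne_zero (congrFun e' 0)
    refine ⟨(glEquiv (Fin 3) F).symm (LinearEquiv.ofInjectiveEndo a ha),
      (glEquiv (Fin 3) F).symm (LinearEquiv.ofInjectiveEndo b hb),
      LinearEquiv.toLinearMap_injective (LinearMap.ext_on (SpThree.span_pureT (pairEquiv e) P) ?_)⟩
    rintro _ ⟨q, rfl⟩
    show glEquiv ι F (Asch.fr e P _) (pt q.1 q.2) = g (pt q.1 q.2)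
    rw [hpure, hab, symm_mulVec, symm_mulVec]
    rfl
  rw [show tensorWreathSubgroup 3 2 e P = (tensorWreathStandard 3 2 F).map (Asch.fr e P).toMonoidHom from
    Subgroup.map_map _ _ _]
  constructor
  · rintro ⟨k, hk, hkg⟩
    have := himg k hk
    rwa [show Asch.fr e P k = (glEquiv ι F).symm g from hkg, MulEquiv.apply_symm_apply] at this
  · have hgen : ∀ (A B : GL (Fin 3) F), Asch.pureU ![A, B] ∈ tensorWreathStandard 3 2 F := fun A B =>
      Subgroup.subset_closure (Or.inl ⟨![A, B], fun _ _ => rfl⟩)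
    set τ : GL (Fin 2 → Fin 3) F := Asch.permU (Equiv.swap 0 1)
    have hτ : τ ∈ tensorWreathStandard 3 2 F := Subgroup.subset_closure (Or.inr ⟨_, fun _ _ => rfl⟩)
    have hτm : Maps pt.flip pt (glEquiv ι F (Asch.fr e P τ)) := by
      refine ⟨LinearMap.id, LinearMap.id, fun w u => ?_⟩
      show glEquiv ι F (Asch.fr e P τ) (pt u w) = pt w u
      rw [fr_pure, pureT_pair]
      congr 1
      funext z
      simp [τ, Asch.permU, Asch.permM, mulVec, dotProduct, Fin.prod_univ_two, mul_comm]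
    rintro (hg | hg)
    · obtain ⟨A, B, hAB⟩ := hmaps g hg
      exact ⟨_, hgen A B, by rw [← hAB, MulEquiv.symm_apply_apply]; rfl⟩
    · obtain ⟨A, B, hAB⟩ := hmaps (g * glEquiv ι F (Asch.fr e P τ)) (hg.comp hτm.flip)
      refine ⟨Asch.pureU ![A, B] * τ⁻¹, mul_mem (hgen A B) (inv_mem hτ), ?_⟩
      apply (glEquiv ι F).injective
      rw [MulEquiv.apply_symm_apply]
      show glEquiv ι F (Asch.fr e P (_ * τ⁻¹)) = g
      rw [map_mul, map_mul, hAB, map_inv, map_inv, mul_inv_cancel_right]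

theorem formOfGram_kron (σ : F → F) (G : Matrix (Fin 3) (Fin 3) F) (x y : Fin 3 × Fin 3 → F) :
    formOfGram σ (kroneckerMap (· * ·) G G) x y = ∑ a : Fin 2 → Fin 3, ∑ b : Fin 2 → Fin 3,
      x (a 0, a 1) * (∏ i, G (a i) (b i)) * σ (y (b 0, b 1)) := by
  unfold formOfGram
  rw [← (finTwoArrowEquiv (Fin 3)).sum_comp]
  refine Finset.sum_congr rfl fun a _ => ?_
  rw [← (finTwoArrowEquiv (Fin 3)).sum_comp]
  refine Finset.sum_congr rfl fun b _ => ?_
  simp [Fin.prod_univ_two, kroneckerMap_apply]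

/-- the stabiliser of a tensor square decomposition of a nine-dimensional orthogonal space is maximal -/
theorem isMaximal_wreath (Q : QuadraticForm F (ι → F)) (hQ : (polarBilin Q).Nondegenerate) (h2 : (2 : F) ≠ 0)
    (hq : 5 ≤ Fintype.card F) (e : ι ≃ (Fin 2 → Fin 3)) (P : GL ι F) (f₁ : (Fin 3 → F) → (Fin 3 → F) → F)
    (hf₁ : IsSymmetricForm f₁) (hT : IsTensorPowerFormStructure id (QuadraticMap.polar Q) f₁ e P) :
    IsMaximalIn (omegaGL ⇑Q) (tensorWreathSubgroup 3 2 e P ⊓ omegaGL ⇑Q) := by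
  classical
  have hT' : IsTensorFormStructure id (QuadraticMap.polar Q) f₁ f₁ (pairEquiv e) P := by
    obtain ⟨c, hc, h⟩ := hT
    refine ⟨c, hc, fun x y => ?_⟩
    rw [formOfGram_kron]
    exact h (fun a => x (a 0, a 1)) (fun a => y (a 0, a 1))
  have hb := NotMax.formOfGram_bilinear id hf₁.bilinear.add_left hf₁.bilinear.smul_left hf₁.bilinear.add_right
    fun c v x => hf₁.bilinear.smul_right c v x
  obtain ⟨c, hc, hform⟩ := NotMax.form_pureT id (fun _ _ => rfl) hT' hb hb
  obtain ⟨QU, hU, hQU⟩ := OTensor.exists_quad h2 hf₁ hc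
  obtain ⟨QW, hW, hQW⟩ := OTensor.exists_quad h2 hf₁ (one_ne_zero (α := F))
  have hd : finrank F (Fin 3 → F) = 3 := by rw [Module.finrank_fintype_fun_eq_card, Fintype.card_fin]
  have hS : Setting Q QU QW (NotMax.pureT (pairEquiv e) P) :=
    { two := h2
      nd := hQ
      ndU := hU
      ndW := hW
      prod := fun u w u' w' => by rw [hform, hQU, hQW]; ring
      span := SpThree.span_pureT (pairEquiv e) P
      lift := fun a b => by
        obtain ⟨G, -, hG⟩ := SpThree.exists_of_pair (pairEquiv e) P ((glEquiv (Fin 3) F).symm a) ((glEquiv (Fin 3) F).symm b)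
        refine ⟨glEquiv ι F G, fun x y => ?_⟩
        rw [← symm_mulVec (glEquiv ι F G), MulEquiv.symm_apply_apply, hG, symm_mulVec, symm_mulVec]
      dimU := hd
      dimW := hd
      q5 := by rw [Nat.card_eq_fintype_card]; exact hq }
  refine isMaximal_of_setting hS ?_ _ fun g => mem_wreath_iff e P g.1
  rw [Fintype.card_congr e, Fintype.card_fun, Fintype.card_fin, Fintype.card_fin]
  norm_num

end Wreath

end Cfsg.Agent.ClassicalMax.OTensor3
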