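import Cfsg.Agent.ClassicalMax.OTensor3.Stab

/-!
An element of an overgroup without root elements that conjugates a non-trivial unipotent element of one factor into the
stabiliser of the decomposition lies in that stabiliser.
-/

set_option autoImplicit false
set_option linter.unusedSectionVars false
set_option linter.style.haveILetI false

namespace Cfsg.Agent.ClassicalMax.OTensor3

open Module QuadraticMap Cfsg.Agent.Classical Cfsg.Agent.Classical.Quad Cfsg.Agent.ClassicalMax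

variable {F U W V : Type*} [Field F] [Finite F] [AddCommGroup U] [Module F U] [FiniteDimensional F U]
  [AddCommGroup W] [Module F W] [FiniteDimensional F W] [AddCommGroup V] [Module F V] [FiniteDimensional F V]
  {Q : QuadraticForm F V} {QU : QuadraticForm F U} {QW : QuadraticForm F W} {pt : U →ₗ[F] W →ₗ[F] V}
  {H : Subgroup (oG Q)} {e f h : U}

/-- an overgroup of the stabiliser inside the commutator subgroup without root elements -/
structure Hyp (Q : QuadraticForm F V) (QU : QuadraticForm F U) (QW : QuadraticForm F W)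
    (pt : U →ₗ[F] W →ₗ[F] V) (H : Subgroup (oG Q)) : Prop where
  set : Setting Q QU QW pt
  le : H ≤ commutator (oG Q)
  norm : ∀ g ∈ commutator (oG Q), g ∈ NS Q pt → g ∈ H
  noL : NoRoot pt QU H
  noR : NoRoot pt.flip QW H

namespace Hyp

variable (hh : Hyp Q QU QW pt H)
include hh

theorem ovr : OTensor.Over pt H := fun g hg hN => hh.norm g hg (Or.inl hN)

theorem ovrF : OTensor.Over pt.flip H := fun g hg hN => hh.norm g hg ((inS_flip g.1).1 (Or.inl hN))

theorem flip : Hyp Q QW QU pt.flip H where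
  set := hh.set.flip
  le := hh.le
  norm := fun g hg hN => hh.norm g hg ((inS_flip g.1).1 hN)
  noL := hh.noR
  noR := hh.noL

/-- an element normalising a space `e ⊗ W` preserves the decomposition -/
theorem maps_of_self (fr : Fr QU e f h) {n : oG Q} (hn : n ∈ H) (hst : ∀ y, ∃ w, n.1 (pt e y) = pt e w) :
    Maps pt pt n.1 :=
  hh.set.maps_of_stab hh.set hh.le hh.norm (fun _ hg => Or.inl hg) hh.noL hh.noL hh.ovr hh.ovr fr fr hn hst

/-- the key to semiregularity -/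
theorem conj_mem (fr : Fr QU e f h) {x : oG Q} (hx : x ∈ H) {s₀ : F} (hs₀ : s₀ ≠ 0)
    (hk : x⁻¹ * hh.set.uL fr s₀ * x ∈ NS Q pt) : x ∈ NS Q pt := by
  classical
  have hS := hh.set
  haveI : Finite V := Module.finite_of_finite F
  haveI := Fintype.ofFinite F
  obtain ⟨p, hp⟩ := CharP.exists F
  haveI := hp
  have hpp : p.Prime := (CharP.char_is_prime_or_zero F p).resolve_right fun e => by
    subst e
    haveI := CharP.charP_to_charZero F
    exact not_finite F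
  haveI := Fact.mk hpp
  set u := hh.set.uL fr s₀
  set k := x⁻¹ * u * x with hkdef
  have hxk : ∀ z, k.1 z = z → u.1 (x.1 z) = x.1 z := fun z hz => by
    conv_rhs => rw [← hz, hkdef, oG_mul_apply, oG_mul_apply, oG_apply_inv]
  have hup : u ^ p = 1 := by
    show hh.set.lp (tr3 fr s₀, 1) ^ p = 1
    rw [hh.set.lp_pow, tr3_order, one_pow, Prod.mk_one_one, map_one]
  have hkp : k ^ p = 1 := by
    have : k ^ p = x⁻¹ * u ^ p * x := by
      have := conj_pow (i := p) (a := x⁻¹) (b := u)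
      rwa [inv_inv] at this
    rw [this, hup, mul_one, inv_mul_cancel]
  have hkN : Maps pt pt k.1 := Or.resolve_right hk (hS.not_swap (p := p) hkp)
  obtain ⟨a, b, ha, hb, hab⟩ := hS.split (p := p) hkN hkp
  obtain ⟨e₁, he₁0, he₁, hae⟩ := exists_fixed hS.triU ha
  obtain ⟨f₁, h₁, fr₁⟩ := exists_fr_of hS.triU he₁0 he₁
  obtain ⟨α₀, hα⟩ := eq_tr3 hS.triU fr₁ ha hae
  obtain ⟨e₂, he₂0, he₂, hbe⟩ := exists_fixed hS.triW hb
  obtain ⟨f₂, h₂, fr₂⟩ := exists_fr_of hS.triW he₂0 he₂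
  obtain ⟨β₀, hβ⟩ := eq_tr3 hS.triW fr₂ hb hbe
  have hk' : ∀ y z, k.1 (pt y z) = pt ((tr3 fr₁ α₀).1 y) ((tr3 fr₂ β₀).1 z) := fun y z => by
    rw [hab, hS.lp_pt, hα, hβ]
  -- the pure cases
  by_cases hβ0 : β₀ = 0
  · refine Or.inl (hS.maps_of_stab hS hh.le hh.norm (fun _ hg => Or.inl hg) hh.noL hh.noL hh.ovr hh.ovr fr fr₁ hx
      fun y => ⟨_, hS.uL_fixed fr hs₀ (hxk _ ?_)⟩)
    rw [hk', hβ0, tr3_zero, tr3_e]
    rfl
  by_cases hα0 : α₀ = 0
  · refine Or.inr (hS.maps_of_stab hS.flip hh.le hh.norm (fun _ hg => Or.inr hg) hh.noL hh.noR hh.ovr hh.ovrF fr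
      fr₂ hx fun y => ⟨_, hS.uL_fixed fr hs₀ (hxk _ ?_)⟩)
    rw [LinearMap.flip_apply, hk', hα0, tr3_zero, tr3_e]
    rfl
  -- the mixed case is impossible
  exfalso
  have hkeq : k = hS.lp (tr3 fr₁ α₀, tr3 fr₂ β₀) := by rw [hab, hα, hβ]
  let Kp : F × F → oG Q := fun c => hS.lp (tr3 fr₁ c.1, tr3 fr₂ c.2)
  have hKH : ∀ c, Kp c ∈ H := fun c =>
    hh.ovr.lp_memC hS.toCore (tr3_mem fr₁ hS.triU _) (tr3_mem fr₂ hS.triW _)
  have hKadd : ∀ c d, Kp c * Kp d = Kp (c + d) := fun c d => by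
    simp only [Kp, ← map_mul, Prod.mk_mul_mk, tr3_add, Prod.fst_add, Prod.snd_add]
  have hKcomm : ∀ c d, Kp c * Kp d = Kp d * Kp c := fun c d => by rw [hKadd, hKadd, add_comm]
  have hKp : ∀ c, Kp c ^ p = 1 := fun c => by
    simp only [Kp, hS.lp_pow, tr3_order, Prod.mk_one_one, map_one]
  have hKinj : Function.Injective Kp := fun c d e0 => by
    obtain ⟨h1, h2⟩ := hS.lp_inj (p := p) (tr3_order _ _) (tr3_order _ _) e0
    exact Prod.ext (tr3_inj _ hS.triU h1) (tr3_inj _ hS.triW h2)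
  -- conjugation by `x`
  have hxu : x * k * x⁻¹ = u := by rw [hkdef]; group
  have hy : ∀ c, ∃ σ : F, ∃ b : oG QW, b ^ p = 1 ∧ x * Kp c * x⁻¹ = hS.lp (tr3 fr σ, b) := fun c => by
    set y := x * Kp c * x⁻¹
    have hcomm : y * u = u * y := by
      rw [← hxu, hkeq]
      show x * Kp c * x⁻¹ * (x * Kp (α₀, β₀) * x⁻¹) = x * Kp (α₀, β₀) * x⁻¹ * (x * Kp c * x⁻¹)
      calc _ = x * (Kp c * Kp (α₀, β₀)) * x⁻¹ := by group
        _ = x * (Kp (α₀, β₀) * Kp c) * x⁻¹ := by rw [hKcomm]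
        _ = _ := by group
    have hyH : y ∈ H := mul_mem (mul_mem hx (hKH c)) (inv_mem hx)
    have hst : ∀ w, ∃ w', y.1 (pt e w) = pt e w' := fun w => ⟨_, hS.uL_fixed fr hs₀ (by
      rw [← oG_mul_apply u y, ← hcomm, oG_mul_apply, hS.uL_e])⟩
    have hyp : y ^ p = 1 := by rw [conj_pow, hKp, mul_one, mul_inv_cancel]
    obtain ⟨a', b', ha', hb', hy'⟩ := hS.split (p := p) (hh.maps_of_self fr hyH hst) hyp
    have h1 : hS.lp (a' * tr3 fr s₀ * a'⁻¹, 1) = hS.lp (tr3 fr s₀, 1) := by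
      have e1 : hS.lp (a', b') * hS.lp (tr3 fr s₀, 1) * (hS.lp (a', b'))⁻¹ =
          hS.lp (a' * tr3 fr s₀ * a'⁻¹, 1) := by
        rw [← map_inv, ← map_mul, ← map_mul, Prod.inv_mk, Prod.mk_mul_mk, Prod.mk_mul_mk, mul_one, mul_inv_cancel]
      rw [← e1, ← hy']
      show y * u * y⁻¹ = u
      rw [hcomm, mul_inv_cancel_right]
    obtain ⟨h2, -⟩ := hS.lp_inj (p := p) (by rw [conj_pow, tr3_order, mul_one, mul_inv_cancel]) (tr3_order _ _) h1
    have h3 : (tr3 fr s₀).1 (a'.1 e) = a'.1 e := by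
      conv_lhs => rw [← h2, oG_mul_apply, oG_mul_apply, oG_inv_apply, tr3_e]
    have h4 := tr3_fixed fr hS.triU hs₀ h3
    set r := polar QU f (a'.1 e)
    have hpw : ∀ n : ℕ, (a' ^ n).1 e = r ^ n • e := fun n => by
      induction n with
      | zero => rw [pow_zero, pow_zero, one_smul, oG_one_apply]
      | succ n ih => rw [pow_succ', oG_mul_apply, ih, map_smul, h4, smul_smul, ← pow_succ]
    have hr : r = 1 := by
      have := hpw p
      rw [ha', oG_one_apply] at this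
      refine sq_one_of_pow hS.triU (smul_left_injective F fr.e_ne ?_)
      show r ^ p • e = (1 : F) • e
      rw [one_smul, ← this]
    obtain ⟨σ, hσ⟩ := eq_tr3 hS.triU fr ha' (by rw [h4, hr, one_smul])
    exact ⟨σ, b', hb', by rw [← hσ]; exact hy'⟩
  choose σ bb hbb hy using hy
  have hbcomm : ∀ c d, bb c * bb d = bb d * bb c := fun c d => by
    have h1 : hS.lp (tr3 fr (σ c), bb c) * hS.lp (tr3 fr (σ d), bb d) =
        hS.lp (tr3 fr (σ d), bb d) * hS.lp (tr3 fr (σ c), bb c) := by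
      rw [← hy, ← hy]
      calc _ = x * (Kp c * Kp d) * x⁻¹ := by group
        _ = x * (Kp d * Kp c) * x⁻¹ := by rw [hKcomm]
        _ = _ := by group
    rw [← map_mul, ← map_mul, Prod.mk_mul_mk, Prod.mk_mul_mk] at h1
    exact (hS.lp_inj (p := p) (by rw [tr3_add, tr3_order]) (by rw [tr3_add, tr3_order]) h1).2
  have hyinj : ∀ c d, σ c = σ d → bb c = bb d → c = d := fun c d h1 h2 => hKinj (by
    have h3 : x * Kp c * x⁻¹ = x * Kp d * x⁻¹ := by rw [hy, hy, h1, h2]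
    exact mul_left_cancel (mul_right_cancel h3))
  obtain ⟨c₃, hc₃⟩ : ∃ c, bb c ≠ 1 := by
    by_contra hno
    push Not at hno
    have hinj : Function.Injective σ := fun c d e0 => hyinj c d e0 (by rw [hno, hno])
    have h1 := Fintype.card_le_of_injective σ hinj
    rw [Fintype.card_prod] at h1
    have := hS.q5
    rw [Nat.card_eq_fintype_card] at this
    have : 5 * Fintype.card F ≤ Fintype.card F * Fintype.card F := Nat.mul_le_mul_right _ this
    omega
  obtain ⟨e₃, he₃0, he₃, hbe₃⟩ := exists_fixed hS.triW (hbb c₃)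
  obtain ⟨f₃, h₃, fr₃⟩ := exists_fr_of hS.triW he₃0 he₃
  obtain ⟨τ₃, hτ₃⟩ := eq_tr3 hS.triW fr₃ (hbb c₃) hbe₃
  have hτ₃0 : τ₃ ≠ 0 := fun e0 => hc₃ (by rw [hτ₃, e0, tr3_zero])
  have hb3 : ∀ c, ∃ τ, bb c = tr3 fr₃ τ := fun c => by
    have h3 : (tr3 fr₃ τ₃).1 ((bb c).1 e₃) = (bb c).1 e₃ := by
      rw [← hτ₃, ← oG_mul_apply, hbcomm, oG_mul_apply, hbe₃]
    have h4 := tr3_fixed fr₃ hS.triW hτ₃0 h3
    set r := polar QW f₃ ((bb c).1 e₃)
    have hpw : ∀ n : ℕ, (bb c ^ n).1 e₃ = r ^ n • e₃ := fun n => by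
      induction n with
      | zero => rw [pow_zero, pow_zero, one_smul, oG_one_apply]
      | succ n ih => rw [pow_succ', oG_mul_apply, ih, map_smul, h4, smul_smul, ← pow_succ]
    have hr : r = 1 := by
      have := hpw p
      rw [hbb, oG_one_apply] at this
      refine sq_one_of_pow hS.triW (smul_left_injective F he₃0 ?_)
      show r ^ p • e₃ = (1 : F) • e₃
      rw [one_smul, ← this]
    exact eq_tr3 hS.triW fr₃ (hbb c) (by rw [h4, hr, one_smul])
  choose τ hτ using hb3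
  have hψ : Function.Injective fun c => (σ c, τ c) := fun c d e0 => by
    simp only [Prod.mk.injEq] at e0
    exact hyinj c d e0.1 (by rw [hτ, hτ, e0.2])
  have hsur : ∀ s, ∃ c, hS.uL fr s = x * Kp c * x⁻¹ := fun s => by
    obtain ⟨c, hc⟩ := Finite.surjective_of_injective hψ (s, 0)
    simp only [Prod.mk.injEq] at hc
    exact ⟨c, by rw [hy, hτ, hc.1, hc.2, tr3_zero]; rfl⟩
  choose C hC using hsur
  have hC' : ∀ s, x⁻¹ * hS.uL fr s * x = Kp (C s) := fun s => by rw [hC]; group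
  have hodd : ∀ s, C (-s) = -C s := fun s => by
    refine eq_neg_of_add_eq_zero_left (hKinj ?_)
    rw [← hKadd, ← hC', ← hC']
    calc _ = x⁻¹ * (hS.uL fr (-s) * hS.uL fr s) * x := by group
      _ = 1 := by rw [hS.uL_add, neg_add_cancel, hS.uL_zero, mul_one, inv_mul_cancel]
      _ = Kp 0 := by simp only [Kp, Prod.fst_zero, Prod.snd_zero, tr3_zero, Prod.mk_one_one, map_one]
  -- coordinates are quadratic in the parameter
  set z := x.1 (pt f₁ f₂)
  have hquad : ∀ w, ∀ s, polar Q w ((Kp (C s)).1 (pt f₁ f₂)) =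
      polar Q (x.1 w) z + s * polar Q (x.1 w) (pt e (hS.pU h z) - pt h (hS.pU e z)) +
        s ^ 2 * polar Q (x.1 w) ((-QU h) • pt e (hS.pU e z)) := fun w s => by
    rw [← hC', oG_mul_apply, oG_mul_apply]
    conv_lhs => rw [← polar_oG x, oG_apply_inv, hS.uL_apply fr, polar_add_right, polar_add_right, polar_smul_right,
      polar_smul_right, smul_eq_mul, smul_eq_mul]
  have hKf : ∀ c : F × F, (Kp c).1 (pt f₁ f₂) =
      pt (f₁ - (QU h₁ * c.1 * c.1) • e₁ - c.1 • h₁) (f₂ - (QW h₂ * c.2 * c.2) • e₂ - c.2 • h₂) := fun c => by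
    show (hS.lp (tr3 fr₁ c.1, tr3 fr₂ c.2)).1 (pt f₁ f₂) = _
    rw [hS.lp_pt, tr3_f, tr3_f]
  obtain ⟨v1, v2, v3, v4, v5, v6⟩ := fr₁.vals
  obtain ⟨w1, w2, w3, w4, w5, w6⟩ := fr₂.vals
  have hlin : ∀ {φ : F → F}, (∀ s, φ (-s) = -φ s) → ∀ {c0 c1 c2 : F}, (∀ s, φ s = c0 + s * c1 + s ^ 2 * c2) →
      ∀ s, φ s = c1 * s := by
    intro φ hφ c0 c1 c2 h0 s
    obtain ⟨z0, -, z2, -, -⟩ := quartic_zero hS.q5 (c0 := 2 * c0) (c1 := 0) (c2 := 2 * c2) (c3 := 0) (c4 := 0) fun t => by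
      linear_combination hφ t - h0 (-t) - h0 t
    rw [h0, (mul_eq_zero.1 z0).resolve_left hS.two, (mul_eq_zero.1 z2).resolve_left hS.two]
    ring
  have hA : ∃ A : F, ∀ s, (C s).1 = A * s := by
    refine ⟨_, hlin (φ := fun s => (C s).1) (fun s => by rw [hodd, Prod.fst_neg])
      (c0 := -(polar Q (x.1 (pt h₁ e₂)) z) / (2 * QU h₁))
      (c1 := -(polar Q (x.1 (pt h₁ e₂)) (pt e (hS.pU h z) - pt h (hS.pU e z))) / (2 * QU h₁))
      (c2 := -(polar Q (x.1 (pt h₁ e₂)) ((-QU h) • pt e (hS.pU e z))) / (2 * QU h₁)) fun s => ?_⟩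
    have h1 := hquad (pt h₁ e₂) s
    rw [hKf, hS.prod] at h1
    conv at h1 => lhs; simp only [polar_sub_right, polar_smul_right, smul_eq_mul, v3, v5, v6, w1, fr₂.hef, fr₂.heh, mul_zero, sub_zero,
      mul_one, zero_sub]
    have := fr₁.hh
    have := hS.two
    field_simp
    linear_combination -h1
  have hB : ∃ B : F, ∀ s, (C s).2 = B * s := by
    refine ⟨_, hlin (φ := fun s => (C s).2) (fun s => by rw [hodd, Prod.snd_neg])
      (c0 := -(polar Q (x.1 (pt e₁ h₂)) z) / (2 * QW h₂))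
      (c1 := -(polar Q (x.1 (pt e₁ h₂)) (pt e (hS.pU h z) - pt h (hS.pU e z))) / (2 * QW h₂))
      (c2 := -(polar Q (x.1 (pt e₁ h₂)) ((-QU h) • pt e (hS.pU e z))) / (2 * QW h₂)) fun s => ?_⟩
    have h1 := hquad (pt e₁ h₂) s
    rw [hKf, hS.prod] at h1
    conv at h1 => lhs; simp only [polar_sub_right, polar_smul_right, smul_eq_mul, w3, w5, w6, v1, fr₁.hef, fr₁.heh, mul_zero, sub_zero,
      one_mul, zero_sub]
    have := fr₂.hh
    have := hS.two
    field_simp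
    linear_combination -h1
  obtain ⟨A, hA⟩ := hA
  obtain ⟨B, hB⟩ := hB
  have h4 : QU h₁ * QW h₂ * (A * A * (B * B)) = 0 := by
    refine (quartic_zero hS.q5 (c0 := -(polar Q (x.1 (pt f₁ f₂)) z))
      (c1 := -(polar Q (x.1 (pt f₁ f₂)) (pt e (hS.pU h z) - pt h (hS.pU e z))))
      (c2 := -(polar Q (x.1 (pt f₁ f₂)) ((-QU h) • pt e (hS.pU e z)))) (c3 := 0) fun s => ?_).2.2.2.2
    have h1 := hquad (pt f₁ f₂) s
    rw [hKf, hS.prod, hA, hB] at h1
    conv at h1 => lhs; simp only [polar_sub_right, polar_smul_right, smul_eq_mul, v2, v4, w2, w4, fr₁.hfh, fr₂.hfh, mul_zero, sub_zero,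
      mul_one, zero_sub]
    linear_combination h1
  have h0 : C s₀ = (α₀, β₀) := hKinj (by
    rw [← hC']
    exact hkdef ▸ hkeq)
  have hA0 : A * s₀ ≠ 0 := by rw [← hA, h0]; exact hα0
  have hB0 : B * s₀ ≠ 0 := by rw [← hB, h0]; exact hβ0
  exact mul_ne_zero (mul_ne_zero fr₁.hh fr₂.hh)
    (mul_ne_zero (mul_ne_zero (left_ne_zero_of_mul hA0) (left_ne_zero_of_mul hA0))
      (mul_ne_zero (left_ne_zero_of_mul hB0) (left_ne_zero_of_mul hB0))) h4

end Hyp

end Cfsg.Agent.ClassicalMax.OTensor3
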