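import Cfsg.Agent.ClassicalMax.OTensor3.Conj
import Cfsg.Agent.ClassicalMax.OTensor3.Quartic
import Cfsg.Agent.ClassicalMax.ExtOrth3.Deg3.Form

/-!
An overgroup without root elements preserves the four-linear form.

Summed over the cosets of the part in the stabiliser, the cosets outside fall into free orbits of a unipotent group of
either factor; on a pair fixed by that group the sum is a polynomial of degree four in the parameter, whose leading
coefficient is killed by the torus.
-/

set_option autoImplicit false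
set_option linter.unusedSectionVars false
set_option linter.style.haveILetI false
set_option synthInstance.maxSize 2000
set_option synthInstance.maxHeartbeats 400000

namespace Cfsg.Agent.ClassicalMax.OTensor3

open Module QuadraticMap Cfsg.Agent.Classical Cfsg.Agent.Classical.Quad Cfsg.Agent.ClassicalMax

variable {F U W V : Type*} [Field F] [Finite F] [AddCommGroup U] [Module F U] [FiniteDimensional F U]
  [AddCommGroup W] [Module F W] [FiniteDimensional F W] [AddCommGroup V] [Module F V] [FiniteDimensional F V]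
  {Q : QuadraticForm F V} {QU : QuadraticForm F U} {QW : QuadraticForm F W} {pt : U →ₗ[F] W →ₗ[F] V}
  {H : Subgroup (oG Q)}

-- help instance search through nested spaces of maps
noncomputable local instance bilinAddCommGroup : AddCommGroup (V →ₗ[F] V →ₗ[F] F) := LinearMap.addCommGroup
noncomputable local instance bilinModule : Module F (V →ₗ[F] V →ₗ[F] F) := LinearMap.module

/-- a bilinear map of two quadratic curves sums to zero without the leading coefficient -/
theorem sum_bil (h5 : 5 ≤ Nat.card F) [Fintype F] {M : Type*} [AddCommGroup M] [Module F M]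
    (B : V →ₗ[F] M →ₗ[F] F) (a0 a1 a2 : V) (b0 b1 b2 : M) (h0 : B a2 b2 = 0) :
    ∑ t : F, B (a0 + t • a1 + t ^ 2 • a2) (b0 + t • b1 + t ^ 2 • b2) = 0 := by
  have h : ∀ t : F, B (a0 + t • a1 + t ^ 2 • a2) (b0 + t • b1 + t ^ 2 • b2) =
      t ^ 0 * B a0 b0 + t ^ 1 * (B a0 b1 + B a1 b0) + t ^ 2 * (B a0 b2 + B a1 b1 + B a2 b0) +
        t ^ 3 * (B a1 b2 + B a2 b1) := fun t => by
    simp only [map_add, map_smul, LinearMap.add_apply, LinearMap.smul_apply, smul_eq_mul, h0]
    ring
  rw [Nat.card_eq_fintype_card] at h5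
  rw [Finset.sum_congr rfl fun t _ => h t]
  simp only [Finset.sum_add_distrib, ← Finset.sum_mul]
  rw [FiniteField.sum_pow_lt_card_sub_one (K := F) 0 (by omega), FiniteField.sum_pow_lt_card_sub_one (K := F) 1 (by omega),
    FiniteField.sum_pow_lt_card_sub_one (K := F) 2 (by omega), FiniteField.sum_pow_lt_card_sub_one (K := F) 3 (by omega)]
  ring

namespace Hyp

variable (hh : Hyp Q QU QW pt H)
include hh

/-- the sum outside the stabiliser vanishes on pairs antisymmetric in the first factor -/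
theorem left_zero (N : Subgroup (oG Q)) (hN : N = NS Q pt) [Fintype (H ⧸ N.subgroupOf H)]
    [DecidableEq (H ⧸ N.subgroupOf H)] (f : V →ₗ[F] V →ₗ[F] V →ₗ[F] V →ₗ[F] F)
    (C : Finset (H ⧸ N.subgroupOf H)) (hC : ∀ x, x ∈ C ↔ (x.out : oG Q) ∉ N)
    (hf : ∀ g ∈ N, pull f g = f)
    (hinv : ∀ k ∈ H, k ∈ N → pull (∑ x ∈ C, pull f (x.out : oG Q)⁻¹) k = ∑ x ∈ C, pull f (x.out : oG Q)⁻¹)
    (x y : U) (p r : W) :
    (∑ x ∈ C, pull f (x.out : oG Q)⁻¹) (pt x p) (pt y r) - (∑ x ∈ C, pull f (x.out : oG Q)⁻¹) (pt y p) (pt x r) = 0 := by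
  classical
  have hS := hh.set
  haveI := Fintype.ofFinite F
  haveI : Finite V := Module.finite_of_finite F
  set Δ := ∑ x ∈ C, pull f (x.out : oG Q)⁻¹ with hΔ
  have hfr : ∀ {e f' h : U} (fr : Fr QU e f' h) (c d : V),
      Δ (pt e p) (pt h r) c d - Δ (pt h p) (pt e r) c d = 0 := by
    intro e f' h fr c d
    obtain ⟨v1, v2, v3, v4, v5, v6⟩ := fr.vals
    let u : F → H := fun t => ⟨hS.uL fr t, hS.uL_mem hh.ovr fr t⟩
    have huadd : ∀ s t, u (s + t) = u s * u t := fun s t => Subtype.ext (hS.uL_add fr s t).symm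
    have hu0 : u 0 = 1 := Subtype.ext (hS.uL_zero fr)
    have huN : ∀ t, (u t : oG Q) ∈ N := fun t => hN ▸ Or.inl (hS.lp_inN _ _)
    let Mt : V →ₗ[F] V := (-QU h) • (pt e).comp (hS.pU e)
    let Nt : V →ₗ[F] V := (pt e).comp (hS.pU h) - (pt h).comp (hS.pU e)
    have hu : ∀ (t : F) (z : V), (hS.uL fr t).1 z = z + t • Nt z + t ^ 2 • Mt z := fun t z => hS.uL_apply fr t z
    -- the orbit sums
    have horb : ∀ c d, (∀ G : oG Q, f (G.1 (pt e p)) (G.1 (pt h r)) (G.1 (Mt c)) (G.1 (Mt d)) -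
        f (G.1 (pt h p)) (G.1 (pt e r)) (G.1 (Mt c)) (G.1 (Mt d)) = 0) →
        Δ (pt e p) (pt h r) c d - Δ (pt h p) (pt e r) c d = 0 := by
      intro c d hlead
      simp only [hΔ, LinearMap.sum_apply, ← Finset.sum_sub_distrib, pull_apply]
      refine ExtOrth3.Deg3.sum_free_orbits (fun t x => u t • x) (fun s t x => by rw [huadd, mul_smul])
        (fun x => by rw [hu0, one_smul]) C (fun t x hx => ?_) (fun x hx s t est => ?_) _ fun x _ => ?_
      · rw [hC] at hx ⊢
        intro hm
        apply hx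
        have h1 := QuotientGroup.eq.1 (show (((u t • x).out : H) : H ⧸ N.subgroupOf H) = (u t * x.out : H) by
          rw [QuotientGroup.out_eq', ← smul_eq_mul, MulAction.Quotient.mk_smul_out])
        rw [Subgroup.mem_subgroupOf] at h1
        have h2 := N.mul_mem (N.inv_mem (huN t)) (N.mul_mem hm h1)
        rwa [Subgroup.coe_mul, Subgroup.coe_inv, Subgroup.coe_mul, mul_inv_cancel_left, inv_mul_cancel_left] at h2
      · by_contra hst
        rw [hC] at hx
        have h1 : u (-t + s) • x = x := by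
          rw [huadd, mul_smul, show u s • x = u t • x from est, ← mul_smul, ← huadd, neg_add_cancel, hu0, one_smul]
        rw [← QuotientGroup.out_eq' x, MulAction.Quotient.smul_coe, smul_eq_mul, eq_comm, QuotientGroup.eq,
          Subgroup.mem_subgroupOf, Subgroup.coe_mul, Subgroup.coe_inv, Subgroup.coe_mul, ← mul_assoc] at h1
        exact hx ((SetLike.ext_iff.1 hN _).2 (hh.conj_mem fr x.out.2
          (fun e0 => hst (by rw [neg_add_eq_zero] at e0; exact e0.symm)) ((SetLike.ext_iff.1 hN _).1 h1)))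
      rw [← Equiv.sum_comp (Equiv.neg F)]
      have hP : ∀ t a b c d, f ((((((u (-t) • x).out : H) : oG Q))⁻¹).1 a) ((((((u (-t) • x).out : H) : oG Q))⁻¹).1 b)
          ((((((u (-t) • x).out : H) : oG Q))⁻¹).1 c) ((((((u (-t) • x).out : H) : oG Q))⁻¹).1 d) =
          f (((x.out : oG Q)⁻¹).1 ((hS.uL fr t).1 a)) (((x.out : oG Q)⁻¹).1 ((hS.uL fr t).1 b))
            (((x.out : oG Q)⁻¹).1 ((hS.uL fr t).1 c)) (((x.out : oG Q)⁻¹).1 ((hS.uL fr t).1 d)) := by
        intro t a b c d
        have h1 := QuotientGroup.eq.1 (show (((u (-t) • x).out : H) : H ⧸ N.subgroupOf H) = (u (-t) * x.out : H) by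
          rw [QuotientGroup.out_eq', ← smul_eq_mul, MulAction.Quotient.mk_smul_out])
        rw [Subgroup.mem_subgroupOf, Subgroup.coe_mul, Subgroup.coe_inv, Subgroup.coe_mul] at h1
        set g := (((u (-t) • x).out : H) : oG Q)
        set k := g⁻¹ * ((u (-t) : oG Q) * (x.out : oG Q)) with hk
        have e : g⁻¹ = k * ((x.out : oG Q)⁻¹ * hS.uL fr t) := by
          have : (u (-t) : oG Q) * hS.uL fr t = 1 := by
            show hS.uL fr (-t) * hS.uL fr t = 1
            rw [hS.uL_add, neg_add_cancel, hS.uL_zero]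
          rw [hk, mul_assoc, mul_assoc, mul_inv_cancel_left, this, mul_one]
        rw [e]
        have h2 := LinearMap.congr_fun (LinearMap.congr_fun (LinearMap.congr_fun₂ (hf k h1)
          (((x.out : oG Q)⁻¹ * hS.uL fr t).1 a) (((x.out : oG Q)⁻¹ * hS.uL fr t).1 b))
          (((x.out : oG Q)⁻¹ * hS.uL fr t).1 c)) (((x.out : oG Q)⁻¹ * hS.uL fr t).1 d)
        rw [pull_apply] at h2
        simp only [oG_mul_apply] at h2 ⊢
        exact h2
      simp only [Equiv.neg_apply, hP]
      set G := (x.out : oG Q)⁻¹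
      let B : V →ₗ[F] V →ₗ[F] F := (f (G.1 (pt e p)) (G.1 (pt h r)) - f (G.1 (pt h p)) (G.1 (pt e r))).compl₁₂
        (G.1 : V →ₗ[F] V) (G.1 : V →ₗ[F] V)
      refine Eq.trans (Finset.sum_congr rfl fun t _ => ?_)
        (sum_bil hS.q5 B c (Nt c) (Mt c) d (Nt d) (Mt d) (hlead G))
      show _ - _ = B _ _
      rw [← hu, ← hu, hS.uL_e, hS.uL_h, hS.uL_h, hS.uL_e]
      simp only [B, map_add, map_smul, LinearMap.compl₁₂_apply, LinearMap.sub_apply, LinearMap.add_apply,
        LinearMap.smul_apply, LinearEquiv.coe_coe]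
      abel
    have hMe : ∀ A, Mt (pt e A) = 0 := fun A => by
      simp only [Mt, LinearMap.smul_apply, LinearMap.comp_apply, hS.pU_pt, v1, zero_smul, map_zero, smul_zero]
    have hMh : ∀ A, Mt (pt h A) = 0 := fun A => by
      simp only [Mt, LinearMap.smul_apply, LinearMap.comp_apply, hS.pU_pt, fr.heh, zero_smul, map_zero, smul_zero]
    have hff : ∀ A A', Δ (pt e p) (pt h r) (pt f' A) (pt f' A') - Δ (pt h p) (pt e r) (pt f' A) (pt f' A') = 0 := by
      intro A A'
      obtain ⟨c₀, hc0, hc1⟩ : ∃ c : F, c ≠ 0 ∧ c * c ≠ 1 := by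
        by_contra hno
        push Not at hno
        have hsub : (Finset.univ : Finset F) ⊆ {0, 1, -1} := fun c _ => by
          rcases eq_or_ne c 0 with rfl | h0
          · simp
          · rcases mul_self_eq_one_iff.1 (hno c h0) with rfl | rfl <;> simp
        have h1 := (Finset.card_le_card hsub).trans Finset.card_le_three
        have h5 := hS.q5
        rw [Nat.card_eq_fintype_card] at h5
        rw [Finset.card_univ] at h1
        omega
      obtain ⟨k, hk, hke, hkf, hkh⟩ := torus3 hS.triU fr hc0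
      have hgN : hS.lp (k, 1) ∈ N := hN ▸ Or.inl (hS.lp_inN _ _)
      have h1 := hinv _ (hh.ovr.lp_memC hS.toCore hk (one_mem _)) hgN
      have e1 := LinearMap.congr_fun (LinearMap.congr_fun (LinearMap.congr_fun₂ h1 (pt e p) (pt h r)) (pt f' A)) (pt f' A')
      have e2 := LinearMap.congr_fun (LinearMap.congr_fun (LinearMap.congr_fun₂ h1 (pt h p) (pt e r)) (pt f' A)) (pt f' A')
      simp only [pull_apply, hS.lp_pt, hke, hkf, hkh, oG_one_apply, map_smul, LinearMap.smul_apply, smul_eq_mul] at e1 e2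
      have h2 : ((c₀ * c₀)⁻¹ - 1) * (Δ (pt e p) (pt h r) (pt f' A) (pt f' A') -
          Δ (pt h p) (pt e r) (pt f' A) (pt f' A')) = 0 := by
        have hcc : c₀ * c₀ ≠ 0 := mul_ne_zero hc0 hc0
        field_simp at e1 e2 ⊢
        linear_combination e1 - e2
      exact (mul_eq_zero.1 h2).resolve_left (sub_ne_zero.2 (mt inv_eq_one.1 hc1))
    have hMfzero : ∀ z z' : V, Mt z = 0 ∨ Mt z' = 0 →
        Δ (pt e p) (pt h r) z z' - Δ (pt h p) (pt e r) z z' = 0 := fun z z' hz => horb z z' fun G => by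
      rcases hz with hz | hz <;> simp [hz]
    rw [hS.decompV fr c, hS.decompV fr d]
    simp only [map_add, LinearMap.add_apply]
    linear_combination hMfzero _ (pt e (hS.pU f' d)) (Or.inl (hMe (hS.pU f' c))) +
      hMfzero (pt e (hS.pU f' c)) (pt f' (hS.pU e d)) (Or.inl (hMe _)) +
      hMfzero (pt e (hS.pU f' c)) (pt h ((2 * QU h)⁻¹ • hS.pU h d)) (Or.inl (hMe _)) +
      hMfzero (pt f' (hS.pU e c)) (pt e (hS.pU f' d)) (Or.inr (hMe _)) +
      hff (hS.pU e c) (hS.pU e d) +
      hMfzero (pt f' (hS.pU e c)) (pt h ((2 * QU h)⁻¹ • hS.pU h d)) (Or.inr (hMh _)) +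
      hMfzero (pt h ((2 * QU h)⁻¹ • hS.pU h c)) (pt e (hS.pU f' d)) (Or.inl (hMh _)) +
      hMfzero (pt h ((2 * QU h)⁻¹ • hS.pU h c)) (pt f' (hS.pU e d)) (Or.inl (hMh _)) +
      hMfzero (pt h ((2 * QU h)⁻¹ • hS.pU h c)) (pt h ((2 * QU h)⁻¹ • hS.pU h d)) (Or.inl (hMh _))
  obtain ⟨e, f', h, fr⟩ := exists_fr hS.triU
  let g : U → U → V →ₗ[F] V →ₗ[F] F := fun a b => Δ (pt a p) (pt b r) - Δ (pt b p) (pt a r)
  have gz : ∀ {e f' h : U}, Fr QU e f' h → g e h = 0 := fun fr => LinearMap.ext₂ fun c d => hfr fr c d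
  have g1 := gz fr
  have g2 := gz fr.symm
  have g3 := gz (fr.symm.map (tr3 fr 1))
  have g3' : g f' e = 0 := by
    refine LinearMap.ext₂ fun c d => ?_
    replace g1 := LinearMap.congr_fun₂ g1 c d
    replace g2 := LinearMap.congr_fun₂ g2 c d
    replace g3 := LinearMap.congr_fun₂ g3 c d
    simp only [g, tr3_f, tr3_h, map_add, map_sub, map_smul, LinearMap.add_apply, LinearMap.sub_apply,
      LinearMap.smul_apply, LinearMap.zero_apply, smul_eq_mul] at g1 g2 g3 ⊢
    refine mul_left_cancel₀ (fr.two_mul_ne hS.triU) ?_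
    linear_combination g3 - g2 - (QU h) * g1
  show g x y = 0
  rw [fr.decomp hS.triU x, fr.decomp hS.triU y]
  refine LinearMap.ext₂ fun c d => ?_
  replace g1 := LinearMap.congr_fun₂ g1 c d
  replace g2 := LinearMap.congr_fun₂ g2 c d
  replace g3' := LinearMap.congr_fun₂ g3' c d
  simp only [g, map_add, map_smul, LinearMap.add_apply, LinearMap.sub_apply, LinearMap.smul_apply, LinearMap.zero_apply,
    smul_eq_mul] at g1 g2 g3' ⊢
  linear_combination
    (polar QU f' x * (polar QU h y / (2 * QU h)) - (polar QU h x / (2 * QU h)) * polar QU f' y) * g1 +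
    (polar QU e x * (polar QU h y / (2 * QU h)) - (polar QU h x / (2 * QU h)) * polar QU e y) * g2 +
    (polar QU e x * polar QU f' y - polar QU f' x * polar QU e y) * g3'

/-- the overgroup preserves the four-linear form -/
theorem f4_all {g : oG Q} (hg : g ∈ H) : pull hh.set.f4 g = hh.set.f4 := by
  classical
  have hS := hh.set
  haveI : Finite V := Module.finite_of_finite F
  haveI : Finite (V ≃ₗ[F] V) := Finite.of_injective (fun g : V ≃ₗ[F] V => (g : V → V)) DFunLike.coe_injective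
  haveI : Finite (oG Q) := Subtype.finite
  set N := NS Q pt with hNdef
  set R := N.subgroupOf H
  haveI := Fintype.ofFinite (H ⧸ R)
  set f := hh.set.f4
  let P : H ⧸ R → V →ₗ[F] V →ₗ[F] V →ₗ[F] V →ₗ[F] F := fun x => pull f (x.out : oG Q)⁻¹
  have hP : ∀ (h : H) a b c d, P (h : H ⧸ R) a b c d = pull f (h : oG Q)⁻¹ a b c d := fun h a b c d => by
    have h1 := QuotientGroup.eq.1 (show ((((h : H ⧸ R)).out : H) : H ⧸ R) = (h : H ⧸ R) from QuotientGroup.out_eq' _)
    rw [Subgroup.mem_subgroupOf, Subgroup.coe_mul, Subgroup.coe_inv] at h1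
    set g := (((h : H ⧸ R)).out : oG Q)
    have e : g⁻¹ = (g⁻¹ * (h : oG Q)) * (h : oG Q)⁻¹ := by rw [mul_inv_cancel_right]
    simp only [P, pull_apply]
    rw [e]
    have h2 := LinearMap.congr_fun (LinearMap.congr_fun (LinearMap.congr_fun₂ (hS.f4_inv h1)
      (((h : oG Q)⁻¹).1 a) (((h : oG Q)⁻¹).1 b)) (((h : oG Q)⁻¹).1 c)) (((h : oG Q)⁻¹).1 d)
    rw [pull_apply] at h2
    exact h2
  have hΦ : ∀ (u : H) a b c d, (∑ x, P x ((u : oG Q).1 a) ((u : oG Q).1 b) ((u : oG Q).1 c) ((u : oG Q).1 d)) =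
      ∑ x, P x a b c d := fun u a b c d => by
    refine Fintype.sum_equiv (MulAction.toPerm u⁻¹) _ _ fun x => ?_
    have e : u⁻¹ • x = ((u⁻¹ * x.out : H) : H ⧸ R) := by
      rw [← smul_eq_mul, MulAction.Quotient.mk_smul_out]
    rw [MulAction.toPerm_apply, e, hP]
    simp only [P, pull_apply, Subgroup.coe_mul, Subgroup.coe_inv, _root_.mul_inv_rev, inv_inv, oG_mul_apply]
    rfl
  let C : Finset (H ⧸ R) := Finset.univ.filter fun x => (x.out : oG Q) ∉ N
  have hC : ∀ x, x ∈ C ↔ (x.out : oG Q) ∉ N := fun x => by simp [C]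
  have hbase : Finset.univ.filter (fun x : H ⧸ R => (x.out : oG Q) ∈ N) = {((1 : H) : H ⧸ R)} := by
    ext x
    simp only [Finset.mem_filter, Finset.mem_univ, true_and, Finset.mem_singleton]
    constructor
    · intro hx
      rw [← QuotientGroup.out_eq' x, QuotientGroup.eq, Subgroup.mem_subgroupOf, Subgroup.coe_mul, Subgroup.coe_inv,
        OneMemClass.coe_one, mul_one]
      exact N.inv_mem hx
    · rintro rfl
      have h1 := QuotientGroup.eq.1 (QuotientGroup.out_eq' (((1 : H) : H ⧸ R))).symm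
      rw [Subgroup.mem_subgroupOf, Subgroup.coe_mul, Subgroup.coe_inv, OneMemClass.coe_one, inv_one, one_mul] at h1
      exact h1
  set Δ := ∑ x ∈ C, pull f (x.out : oG Q)⁻¹ with hΔdef
  have hsplit : ∀ a b c d, (∑ x, P x a b c d) = f a b c d + Δ a b c d := fun a b c d => by
    rw [← Finset.sum_filter_add_sum_filter_not Finset.univ (fun x : H ⧸ R => (x.out : oG Q) ∈ N), hbase,
      Finset.sum_singleton, hP, OneMemClass.coe_one, inv_one, pull_apply]
    simp only [hΔdef, LinearMap.sum_apply, C, P, oG_one_apply]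
  have hinv : ∀ k ∈ H, k ∈ N → pull Δ k = Δ := fun k hk hkN => by
    refine LinearMap.ext₂ fun a b => LinearMap.ext₂ fun c d => ?_
    have h1 := hΦ ⟨k, hk⟩ a b c d
    rw [hsplit, hsplit] at h1
    have h2 := LinearMap.congr_fun (LinearMap.congr_fun (LinearMap.congr_fun₂ (hS.f4_inv hkN) a b) c) d
    rw [pull_apply] at h2
    rw [show ((⟨k, hk⟩ : H) : oG Q) = k from rfl, h2] at h1
    rw [pull_apply]
    exact add_left_cancel h1
  have hNflip : N = NS Q pt.flip := Subgroup.ext fun g => (inS_flip g.1).symm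
  have hswap : ∀ a b, Δ b a = -Δ a b := fun a b => LinearMap.ext₂ fun c d => by
    simp only [hΔdef, LinearMap.sum_apply, LinearMap.neg_apply, ← Finset.sum_neg_distrib]
    exact Finset.sum_congr rfl fun x _ => by rw [pull_apply, pull_apply, hS.f4_swap]
  have hzero : Δ = 0 := by
    refine hS.ext_pure (M := V →ₗ[F] V →ₗ[F] V →ₗ[F] F) (f := Δ) (g := 0) fun x p =>
      hS.ext_pure (M := V →ₗ[F] V →ₗ[F] F) fun y r => ?_
    show Δ (pt x p) (pt y r) = 0
    have hfi : ∀ g ∈ N, pull f g = f := fun g hg => hS.f4_inv hg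
    have e1 := hh.left_zero N hNdef f C hC hfi hinv x y p r
    have e2 := hh.flip.left_zero N hNflip f C hC hfi hinv p r x y
    simp only [LinearMap.flip_apply, ← hΔdef] at e1 e2
    rw [hswap (pt y p) (pt x r)] at e2
    have e3 : (2 : F) • Δ (pt x p) (pt y r) = 0 := by linear_combination (norm := module) e1 + e2
    exact (smul_eq_zero.1 e3).resolve_left hS.two
  refine LinearMap.ext₂ fun a b => LinearMap.ext₂ fun c d => ?_
  have h1 := hΦ ⟨g, hg⟩ a b c d
  rw [hsplit, hsplit, hzero] at h1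
  simp only [LinearMap.zero_apply, add_zero] at h1
  rw [pull_apply]
  exact h1

/-- an overgroup without root elements preserves the decomposition up to exchanging the factors -/
theorem ns_all {g : oG Q} (hg : g ∈ H) : g ∈ NS Q pt := by
  classical
  have hS := hh.set
  obtain ⟨e, f', h, fr⟩ := exists_fr hS.triU
  obtain ⟨e₂, f₂, h₂, fr₂⟩ := exists_fr hS.triW
  have hconj : ∀ {g : oG Q}, g ∈ H → ∀ a b z, hS.opr (g.1 a) (g.1 b) z = g.1 (hS.opr a b (g⁻¹.1 z)) := by
    intro g hg a b z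
    refine hS.eqV fun d => ?_
    have h1 := LinearMap.congr_fun (LinearMap.congr_fun (LinearMap.congr_fun₂ (hh.f4_all hg) a b) ((g⁻¹).1 z)) ((g⁻¹).1 d)
    rw [pull_apply, oG_apply_inv, oG_apply_inv] at h1
    rw [hS.polar_opr, h1, ← hS.polar_opr]
    conv_rhs => rw [← oG_apply_inv g d, polar_oG]
  set E0 := hS.opr (pt e e₂) (pt h f₂) with hE0
  have hE0p : ∀ x y, E0 (pt x y) = pt (dl QU e h x) y := fun x y => by
    rw [hE0, hS.opr_pt, fr₂.hef, fr.heh, one_smul, zero_smul, LinearMap.zero_apply, map_zero, add_zero]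
  set E1 := hS.opr (g.1 (pt e e₂)) (g.1 (pt h f₂)) with hE1
  have hgE : ∀ z, E1 z = g.1 (E0 ((g⁻¹).1 z)) := fun z => hconj hg _ _ z
  obtain ⟨L, R, hL, hR, hLR⟩ := hS.opr_mem (g.1 (pt e e₂)) (g.1 (pt h f₂))
  rw [← hE1] at hLR
  have hhp : polar QU h f' = 0 := fr.vals.2.2.2.2.2
  have key : ∀ a b : U, polar QU a b = 0 →
      ∃ c : F, ∀ x y, pt ((L * (L * dl QU a b - dl QU a b * L) - (L * dl QU a b - dl QU a b * L) * L) x) y =
        c • (pt (L x) y + pt x (R y)) := by
    intro a b hab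
    set T := hS.opr ((g⁻¹).1 (pt a e₂)) ((g⁻¹).1 (pt b f₂)) with hT
    obtain ⟨L', R', hL', -, hT'⟩ := hS.opr_mem ((g⁻¹).1 (pt a e₂)) ((g⁻¹).1 (pt b f₂))
    rw [← hT] at hT'
    have hTa : ∀ x y, g.1 (T ((g⁻¹).1 (pt x y))) = pt (dl QU a b x) y := fun x y => by
      rw [← hconj hg, oG_apply_inv, oG_apply_inv, hS.opr_pt, fr₂.hef, hab, one_smul, zero_smul, LinearMap.zero_apply,
        map_zero, add_zero]
    obtain ⟨c, hc⟩ := ad_line fr hS.triU hL'
    refine ⟨c, fun x y => ?_⟩
    have h0 : ∀ w, E0 (E0 (T w)) - E0 (T (E0 w)) - (E0 (T (E0 w)) - T (E0 (E0 w))) = c • E0 w := by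
      refine LinearMap.congr_fun (f := E0 * (E0 * T) - E0 * (T * E0) - (E0 * (T * E0) - T * (E0 * E0))) (g := c • E0)
        (hS.ext_pure fun x y => ?_)
      have h1 := congrArg (fun A : Module.End F U => pt (A x) y) hc
      simp only [LinearMap.sub_apply, Module.End.mul_apply, LinearMap.smul_apply, map_sub, map_smul] at h1
      simp only [LinearMap.sub_apply, Module.End.mul_apply, LinearMap.smul_apply, hE0p, hT', map_add, map_sub]
      linear_combination (norm := module) h1
    have h2 := congrArg g.1 (h0 ((g⁻¹).1 (pt x y)))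
    rw [map_smul, ← hgE, hLR] at h2
    rw [← h2]
    have hg0 : ∀ w, g.1 (E0 w) = E1 (g.1 w) := fun w => by rw [hgE, oG_inv_apply]
    let T' : Module.End F V := (g.1 : V →ₗ[F] V) ∘ₗ T ∘ₗ ((g⁻¹).1 : V →ₗ[F] V)
    have hT'' : ∀ w, g.1 (T w) = T' (g.1 w) := fun w => by
      show _ = g.1 (T ((g⁻¹).1 (g.1 w)))
      rw [oG_inv_apply]
    have hTp : ∀ x y, T' (pt x y) = pt (dl QU a b x) y := hTa
    simp only [map_sub, hg0, hT'', oG_apply_inv, hTp, hLR, map_add, LinearMap.add_apply, LinearMap.sub_apply,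
      Module.End.mul_apply]
    abel
  have hcases : L = 0 ∨ R = 0 := by
    by_contra hne
    push Not at hne
    obtain ⟨hL0, hR0⟩ := hne
    refine hL0 ?_
    have hz : ∀ a b : U, polar QU a b = 0 →
        L * (L * dl QU a b - dl QU a b * L) - (L * dl QU a b - dl QU a b * L) * L = 0 := fun a b hab => by
      obtain ⟨c, hc⟩ := key a b hab
      set A := L * (L * dl QU a b - dl QU a b * L) - (L * dl QU a b - dl QU a b * L) * L
      have hc0 : c = 0 := by
        by_contra hc0
        apply hR0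
        set σ := (polar QU h (A h) - c * polar QU h (L h)) / (c * (2 * QU h))
        have hne : c * (2 * QU h) ≠ 0 := mul_ne_zero hc0 (fr.two_mul_ne hS.triU)
        have hσ : ∀ y, R y = σ • y := fun y => by
          have h1 := congrArg (hS.pU h) (hc h y)
          simp only [map_smul, map_add, hS.pU_pt, polar_self' h] at h1
          have h2 : (c * (2 * QU h)) • R y = (polar QU h (A h) - c * polar QU h (L h)) • y := by
            linear_combination (norm := module) -h1
          rw [← inv_smul_smul₀ hne (R y), h2, smul_smul, ← div_eq_inv_mul]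
        have hσ0 : σ = 0 := by
          have h1 := hR h₂ h₂
          simp only [hσ, polar_smul_left, polar_smul_right, polar_self' h₂, smul_eq_mul] at h1
          refine (mul_eq_zero.1 ?_).resolve_right (mul_ne_zero hS.two (fr₂.two_mul_ne hS.triW))
          linear_combination h1
        exact LinearMap.ext fun y => by rw [hσ, hσ0, zero_smul, LinearMap.zero_apply]
      refine LinearMap.ext fun x => hS.flip.pt_inj fr₂.h_ne ?_
      rw [LinearMap.flip_apply, hc, hc0, zero_smul, LinearMap.zero_apply, map_zero]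
    exact ad_zero fr hS.triU hL (hz e h fr.heh) (hz h f' hhp)
  have hu : ∀ z, (hS.uL fr (-1)).1 z = z + E0 z + (2 : F)⁻¹ • E0 (E0 z) := by
    refine LinearMap.congr_fun (f := ((hS.uL fr (-1)).1 : V →ₗ[F] V))
      (g := LinearMap.id + E0 + (2 : F)⁻¹ • E0 ∘ₗ E0) (hS.ext_pure fun x y => ?_)
    show (hS.uL fr (-1)).1 (pt x y) = pt x y + E0 (pt x y) + (2 : F)⁻¹ • E0 (E0 (pt x y))
    rw [hE0p, hE0p, hS.uL_pt, ← LinearMap.add_apply, ← map_add, ← LinearMap.smul_apply, ← map_smul,
      ← LinearMap.add_apply, ← map_add]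
    congr 2
    obtain ⟨v1, -, v3, -, v5, v6⟩ := fr.vals
    simp only [tr3_apply, dl_apply, polar_sub_right, polar_smul_right, smul_eq_mul, v1, v3, v5, fr.heh,
      polar_comm QU x h]
    have := hS.two
    match_scalars <;> field_simp <;> ring
  have hmaps : InS pt (g * hS.uL fr (-1) * g⁻¹ : oG Q).1 := by
    have he : ∀ z, (g * hS.uL fr (-1) * g⁻¹ : oG Q).1 z = z + E1 z + (2 : F)⁻¹ • E1 (E1 z) := fun z => by
      rw [oG_mul_apply, oG_mul_apply, hu, map_add, map_add, map_smul, oG_apply_inv, hgE, hgE, oG_inv_apply]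
    rcases hcases with h0 | h0
    · refine Or.inl ⟨LinearMap.id, LinearMap.id + R + (2 : F)⁻¹ • R ∘ₗ R, fun x y => ?_⟩
      rw [he, hLR, h0]
      simp only [map_add, map_smul, hLR, h0, LinearMap.zero_apply, map_zero, LinearMap.zero_apply, zero_add,
        LinearMap.id_apply, LinearMap.add_apply, LinearMap.smul_apply, LinearMap.comp_apply]
    · refine Or.inl ⟨LinearMap.id + L + (2 : F)⁻¹ • L ∘ₗ L, LinearMap.id, fun x y => ?_⟩
      rw [he, hLR, h0]
      simp only [map_add, map_smul, hLR, h0, LinearMap.zero_apply, map_zero, add_zero, LinearMap.id_apply,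
        LinearMap.add_apply, LinearMap.smul_apply, LinearMap.comp_apply]
  have h1 := hh.conj_mem fr (inv_mem hg) (s₀ := -1) (neg_ne_zero.2 one_ne_zero) (by rw [inv_inv]; exact hmaps)
  simpa using (NS Q pt).inv_mem h1

end Hyp

end Cfsg.Agent.ClassicalMax.OTensor3
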