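import Cfsg.Agent.ClassicalMax.OTensor3.Basic
import Cfsg.Agent.ClassicalMax.RootPlanes

/-!
Root elements inside a totally singular three-space `e ⊗ W`: one non-trivial such element in an overgroup of the
stabiliser gives all Siegel transformations.
-/

set_option autoImplicit false
set_option linter.unusedSectionVars false
set_option linter.style.haveILetI false

namespace Cfsg.Agent.ClassicalMax.OTensor3

open Module QuadraticMap Cfsg.Agent.Classical Cfsg.Agent.Classical.Quad Cfsg.Agent.ClassicalMax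
open Cfsg.Agent.ClassicalMax.RootPlanes

variable {F U W V : Type*} [Field F] [Finite F] [AddCommGroup U] [Module F U] [FiniteDimensional F U]
  [AddCommGroup W] [Module F W] [FiniteDimensional F W] [AddCommGroup V] [Module F V] [FiniteDimensional F V]
  {Q : QuadraticForm F V} {QU : QuadraticForm F U} {QW : QuadraticForm F W} {pt : U →ₗ[F] W →ₗ[F] V}
  {H : Subgroup (oG Q)}

/-- no element of `H` other than the identity fixes the orthogonal of a space `e ⊗ W` pointwise -/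
def NoRoot (pt : U →ₗ[F] W →ₗ[F] V) (QU : QuadraticForm F U) (H : Subgroup (oG Q)) : Prop :=
  ∀ e f h : U, Fr QU e f h → ∀ o ∈ H, (∀ y, o.1 (pt e y) = pt e y) → (∀ y, o.1 (pt h y) = pt h y) → o = 1

namespace Setting

variable (hS : Setting Q QU QW pt)
include hS

variable {e f h : U}

/-- an element fixing the orthogonal of `e ⊗ W` pointwise -/
theorem root_of_fix (fr : Fr QU e f h) {o : oG Q} (h1 : ∀ y, o.1 (pt e y) = pt e y)
    (h2 : ∀ y, o.1 (pt h y) = pt h y) : ∃ δ : Module.End F W, ∀ z, o.1 z = z + pt e (δ (hS.pU e z)) := by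
  obtain ⟨v1, v2, v3, v4, v5, v6⟩ := fr.vals
  let δ : Module.End F W := (hS.pU f).comp ((o.1 : V →ₗ[F] V).comp (pt f))
  have he : ∀ y, hS.pU e (o.1 (pt f y)) = y := fun y => hS.eqW fun w => by
    rw [hS.polar_pU]
    conv_lhs => rw [← h1 w, polar_oG, hS.prod, fr.hef, one_mul, polar_comm]
  have hh : ∀ y, hS.pU h (o.1 (pt f y)) = 0 := fun y => hS.eqW fun w => by
    rw [hS.polar_pU, polar_zero_left]
    conv_lhs => rw [← h2 w, polar_oG, hS.prod, v6, zero_mul]
  have hf : ∀ y, o.1 (pt f y) = pt f y + pt e (δ y) := fun y => by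
    conv_lhs => rw [hS.decompV fr (o.1 (pt f y)), he, hh, smul_zero, map_zero, add_zero, add_comm]
    rfl
  refine ⟨δ, fun z => ?_⟩
  conv_lhs => rw [hS.decompV fr z, map_add, map_add, h1, hf, h2]
  conv_rhs => arg 1; rw [hS.decompV fr z]
  abel

/-- the parameters of the root elements of `H` in `e ⊗ W` -/
def par (e : U) (he : QU e = 0) (H : Subgroup (oG Q)) : AddSubgroup (Module.End F W) where
  carrier := {δ | ∃ o ∈ H, ∀ z, o.1 z = z + pt e (δ (hS.pU e z))}
  zero_mem' := ⟨1, one_mem H, fun z => by rw [oG_one_apply, LinearMap.zero_apply, map_zero, add_zero]⟩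
  add_mem' := fun {δ δ'} ⟨o, ho, h1⟩ ⟨o', ho', h1'⟩ => ⟨o * o', mul_mem ho ho', fun z => by
    rw [oG_mul_apply, h1', h1, map_add (hS.pU e), hS.pU_pt, polar_self', he, mul_zero, zero_smul, add_zero,
      LinearMap.add_apply, map_add]
    abel⟩
  neg_mem' := fun {δ} ⟨o, ho, h1⟩ => ⟨o⁻¹, inv_mem ho, fun z => o.1.injective (by
    rw [oG_apply_inv, h1, map_add (hS.pU e), hS.pU_pt, polar_self', he, mul_zero, zero_smul, add_zero,
      LinearMap.neg_apply, map_neg]
    abel)⟩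

theorem par_sk (fr : Fr QU e f h) {δ : Module.End F W} (hδ : δ ∈ hS.par e fr.he H) : Sk QW δ := by
  obtain ⟨o, -, ho⟩ := hδ
  intro x y
  have h1 := polar_oG o (pt f x) (pt f y)
  rw [ho, ho, hS.pU_pt, hS.pU_pt, fr.hef, one_smul, one_smul, polar_add_left, polar_add_right, polar_add_right,
    hS.prod, hS.prod, hS.prod, hS.prod, fr.hef, fr.vals.1, fr.vals.2.1, fr.vals.2.2.2.1] at h1
  linear_combination h1

theorem par_conj (he : QU e = 0) {δ : Module.End F W} (hδ : δ ∈ hS.par e he H) {k₁ : oG QU} {k : oG QW}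
    (hk : hS.lp (k₁, k) ∈ H) {t : F} {e' : U} (he' : QU e' = 0) (ht : t ≠ 0) (hke : k₁.1 e = t • e') :
    (t * t) • (k.1 : W →ₗ[F] W).comp (δ.comp ((k⁻¹).1 : W →ₗ[F] W)) ∈ hS.par e' he' H := by
  obtain ⟨o, ho, h1⟩ := hδ
  refine ⟨hS.lp (k₁, k) * o * (hS.lp (k₁, k))⁻¹, mul_mem (mul_mem hk ho) (inv_mem hk), fun z => ?_⟩
  have h2 := hS.pU_lp k₁ k e ((hS.lp (k₁, k))⁻¹.1 z)
  rw [oG_apply_inv, hke, hS.pU_smul] at h2
  rw [oG_mul_apply, oG_mul_apply, h1, map_add, oG_apply_inv, hS.lp_pt, hke]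
  have h3 : hS.pU e ((hS.lp (k₁, k))⁻¹.1 z) = t • (k⁻¹).1 (hS.pU e' z) :=
    k.1.injective (by rw [← h2, map_smul, oG_apply_inv])
  rw [h3]
  simp only [map_smul, LinearMap.smul_apply, LinearMap.comp_apply, LinearEquiv.coe_coe, smul_smul]

/-- the planes inside `e ⊗ W` from the parameters -/
theorem pl_of_par (fr : Fr QU e f h) (hall : ∀ x y, dl QW x y ∈ hS.par e fr.he H) (p r : W) :
    Pl H (pt e p) (pt e r) := by
  refine ⟨hS.pure_sing fr.he p, hS.pure_sing fr.he r, by rw [hS.prod, fr.vals.1, zero_mul], fun l hu hl => ?_⟩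
  obtain ⟨o, ho, h1⟩ := hall (l • r) p
  convert ho using 1
  refine ext_oG fun z => ?_
  have hz : ∀ w, polar Q z (pt e w) = polar QW w (hS.pU e z) := fun w => by
    rw [polar_comm Q z, ← hS.polar_pU, polar_comm QW w]
  rw [h1, sO_apply, Quad.map_smul', hS.pure_sing fr.he r, polar_smul_right, hz, hz, dl_apply, map_sub, map_smul,
    map_smul, map_smul, polar_smul_left]
  module

/-- one root element gives all planes `e ⊗ W` -/
theorem planes_of_par (hO : OTensor.Over pt H) (fr : Fr QU e f h) {δ : Module.End F W}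
    (hδ : δ ∈ hS.par e fr.he H) (hne : δ ≠ 0) : ∀ e', QU e' = 0 → ∀ p r, Pl H (pt e' p) (pt e' r) := by
  have hall : ∀ {e' f' h' : U} (fr' : Fr QU e' f' h') {δ' : Module.End F W}, δ' ∈ hS.par e' fr'.he H → δ' ≠ 0 →
      ∀ x y, dl QW x y ∈ hS.par e' fr'.he H := fun fr' δ' hδ' hne' =>
    all_of_invariant hS.triW _ (fun a ha => hS.par_sk fr' ha) (fun k hk a ha => by
      have := hS.par_conj fr'.he ha (k₁ := 1) (k := k) (hO.lp_memC hS.toCore (one_mem _) hk) fr'.he one_ne_zero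
        (by rw [oG_one_apply, one_smul])
      rwa [mul_one, one_smul] at this) hδ' hne'
  intro e' he' p r
  rcases eq_or_ne e' 0 with rfl | he0
  · rw [map_zero, LinearMap.zero_apply, LinearMap.zero_apply]
    exact Pl.refl (by rw [map_zero])
  obtain ⟨k, hk, t, ht, hkt⟩ := trans_line hS.triU fr.e_ne fr.he he0 he'
  obtain ⟨f', h', fr'⟩ := exists_fr_of hS.triU he0 he'
  have h1 := hS.par_conj fr.he hδ (k₁ := k) (k := 1) (hO.lp_memC hS.toCore hk (one_mem _)) he' ht hkt
  refine hS.pl_of_par fr' (hall fr' h1 fun e0 => hne (LinearMap.ext fun x => ?_)) p r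
  have h2 := LinearMap.congr_fun e0 x
  simp only [LinearMap.smul_apply, LinearMap.comp_apply, LinearEquiv.coe_coe, inv_one, oG_one_apply,
    LinearMap.zero_apply, smul_eq_zero, mul_eq_zero, ht, false_or] at h2
  rw [LinearMap.zero_apply]
  exact h2

/-- a plane across two spaces from the planes inside them -/
theorem cross (hL : ∀ e', QU e' = 0 → ∀ p r, Pl H (pt e' p) (pt e' r)) (fr : Fr QU e f h) {p r σ τ : W}
    (h1 : polar QW p σ = 0) (h2 : polar QW p τ = 0) (h3 : polar QW r τ = 0) (h4 : polar QW r σ ≠ 0) :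
    Pl H (pt e p) (pt f τ) :=
  (hL e fr.he p r).rule (hL f fr.hf σ τ) (by rw [hS.prod, h1, mul_zero]) (by rw [hS.prod, h2, mul_zero])
    (by rw [hS.prod, h3, mul_zero]) (by rw [hS.prod, fr.hef, one_mul]; exact h4)

/-- the planes `U ⊗ p` from the planes `e ⊗ W` -/
theorem planes_flip (hO : OTensor.Over pt.flip H) (hL : ∀ e', QU e' = 0 → ∀ p r, Pl H (pt e' p) (pt e' r))
    (fr : Fr QU e f h) {e₂ f₂ h₂ : W} (fr₂ : Fr QW e₂ f₂ h₂) :
    ∀ p, QW p = 0 → ∀ a b, Pl H (pt a p) (pt b p) := by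
  have h1 : Pl H (pt e e₂) (pt f e₂) :=
    hS.cross hL fr (r := h₂) (σ := h₂) fr₂.heh fr₂.vals.1 fr₂.vals.2.2.2.2.1
      (by rw [fr₂.vals.2.2.1]; exact fr₂.two_mul_ne hS.triW)
  obtain ⟨ha, hb, hab, hm⟩ := h1
  have hpol := polar_perp_smul hab 1
  have ho := hm 1 ha hpol
  have hd : dl QU f e ∈ hS.flip.par e₂ fr₂.he H := ⟨_, ho, fun z => by
    have hz : ∀ u, polar Q z (pt u e₂) = polar QU u (hS.flip.pU e₂ z) := fun u => by
      rw [polar_comm Q z, polar_comm QU u, hS.flip.polar_pU e₂ z u]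
      rfl
    rw [sO_apply, one_smul, hb, hz, hz, dl_apply, map_sub, map_smul, map_smul]
    simp only [LinearMap.flip_apply]
    module⟩
  refine hS.flip.planes_of_par hO fr₂ hd fun e0 => fr.e_ne ?_
  have h2 := LinearMap.congr_fun e0 e
  rwa [dl_apply, fr.vals.2.2.2.1, fr.vals.1, one_smul, zero_smul, sub_zero, LinearMap.zero_apply] at h2

/-- all Siegel transformations with centre a singular pure tensor -/
theorem full_pure (hL : ∀ e', QU e' = 0 → ∀ p r, Pl H (pt e' p) (pt e' r))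
    (hR : ∀ p', QW p' = 0 → ∀ a b, Pl H (pt a p') (pt b p'))
    (fr : Fr QU e f h) {e₂ f₂ h₂ : W} (fr₂ : Fr QW e₂ f₂ h₂) : Full H (pt e e₂) := by
  obtain ⟨v1, v2, v3, v4, v5, v6⟩ := fr.vals
  obtain ⟨w1, w2, w3, w4, w5, w6⟩ := fr₂.vals
  have hz : Q (pt e e₂) = 0 := hS.pure_sing fr.he e₂
  refine full_of_tS hz fun w hw => ?_
  let T := tS H hz
  have hE : ∀ y, pt e y ∈ T := fun y => mem_tS (hL e fr.he e₂ y)
  have hX : ∀ x, pt x e₂ ∈ T := fun x => mem_tS (hR e₂ fr₂.he e x)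
  have hfh : ∀ {f' h' : U}, Fr QU e f' h' → pt f' h₂ ∈ T := fun fr' =>
    mem_tS (hS.cross hL fr' (r := f₂) (σ := e₂) w1 fr₂.heh fr₂.hfh (by rw [w4]; exact one_ne_zero))
  have hhf : pt h f₂ ∈ T := mem_tS (hS.flip.cross (e := e₂) (f := f₂) (p := e) (τ := h) (r := f) (σ := e)
    (fun p' hp' a b => hR p' hp' a b) fr₂ v1 fr.heh fr.hfh (by rw [v4]; exact one_ne_zero))
  have hhh : pt h h₂ ∈ T := by
    have h2 := hfh (tr3_e fr 1 ▸ fr.map (tr3 fr 1))
    rw [tr3_f, map_sub, map_sub, map_smul, map_smul] at h2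
    simp only [LinearMap.sub_apply, LinearMap.smul_apply] at h2
    have h3 := T.sub_mem (T.sub_mem (hfh fr) (T.smul_mem (QU h) (hE h₂))) h2
    convert h3 using 1
    module
  have hd := fr₂.decomp hS.triW (hS.pU e w)
  have hB : polar QW e₂ (hS.pU e w) = 0 := by rw [polar_comm, hS.polar_pU, hw]
  rw [hB, zero_smul, add_zero] at hd
  rw [hS.decompV fr w, hd, fr₂.decomp hS.triW ((2 * QU h)⁻¹ • hS.pU h w)]
  simp only [map_add, map_smul]
  exact T.add_mem (T.add_mem (hE _) (T.add_mem (T.smul_mem _ (hX f)) (T.smul_mem _ (hfh fr))))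
    (T.add_mem (T.add_mem (T.smul_mem _ (hX h)) (T.smul_mem _ hhf)) (T.smul_mem _ hhh))

/-- an overgroup with a root element contains every Siegel transformation -/
theorem eo_of_root (hO : OTensor.Over pt H) (hO' : OTensor.Over pt.flip H) (hn : ¬ NoRoot pt QU H) : eo Q ≤ H := by
  simp only [NoRoot, not_forall] at hn
  obtain ⟨e, f, h, fr, o, ho, h1, h2, hne⟩ := hn
  obtain ⟨δ, hδ⟩ := hS.root_of_fix fr h1 h2
  have hL := hS.planes_of_par hO fr (δ := δ) ⟨o, ho, hδ⟩ fun e0 => hne (ext_oG fun z => by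
    rw [hδ, e0, LinearMap.zero_apply, map_zero, add_zero, oG_one_apply])
  obtain ⟨e₂, f₂, h₂, fr₂⟩ := exists_fr hS.triW
  have hR := hS.planes_flip hO' hL fr fr₂
  have hfin : 3 ≤ finrank F V := by
    have hi : Function.Injective (pt e) := fun y y' e' => hS.pt_inj fr.e_ne e'
    have := LinearMap.finrank_le_finrank_of_injective hi
    rwa [hS.dimW] at this
  refine eo_le hS.nd hfin (hS.full_pure hL hR fr fr₂) (hS.full_pure hL hR fr.symm fr₂.symm) ?_
  rw [hS.prod, fr.hef, fr₂.hef, mul_one]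
  exact one_ne_zero

end Setting

end Cfsg.Agent.ClassicalMax.OTensor3
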