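import Cfsg.Agent.ClassicalMax.OTensor3.Ternary
import Mathlib.Algebra.Polynomial.Roots

/-!
Skew and self-adjoint maps of a ternary orthogonal space: brackets, additive groups of skew maps invariant under the
orthogonal group, and self-adjoint maps commuting with their conjugates.
-/

set_option autoImplicit false
set_option linter.unusedSectionVars false
set_option linter.style.haveILetI false

namespace Cfsg.Agent.ClassicalMax.OTensor3

open Module QuadraticMap Cfsg.Agent.Classical Cfsg.Agent.Classical.Quad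

variable {F U : Type*} [Field F] [AddCommGroup U] [Module F U] [FiniteDimensional F U] {R : QuadraticForm F U}
  {e f h : U}

/-- a function on the field given by a quartic and vanishing everywhere has vanishing coefficients -/
theorem quartic_zero [Finite F] (h5 : 5 ≤ Nat.card F) {c0 c1 c2 c3 c4 : F}
    (h0 : ∀ t : F, c0 + t * c1 + t ^ 2 * c2 + t ^ 3 * c3 + t ^ 4 * c4 = 0) :
    c0 = 0 ∧ c1 = 0 ∧ c2 = 0 ∧ c3 = 0 ∧ c4 = 0 := by
  classical
  haveI := Fintype.ofFinite F
  let P : Polynomial F := Polynomial.C c0 + Polynomial.C c1 * Polynomial.X + Polynomial.C c2 * Polynomial.X ^ 2 +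
    Polynomial.C c3 * Polynomial.X ^ 3 + Polynomial.C c4 * Polynomial.X ^ 4
  have hd : P.natDegree ≤ 4 := by
    simp only [P]
    compute_degree
  have hP : P = 0 := Polynomial.eq_zero_of_natDegree_lt_card_of_eval_eq_zero P (f := fun t : F => t)
    (fun a b e => e) (fun t => by
      simp only [P, Polynomial.eval_add, Polynomial.eval_mul, Polynomial.eval_C, Polynomial.eval_X, Polynomial.eval_pow]
      linear_combination h0 t) (by rw [← Nat.card_eq_fintype_card]; omega)
  have hc : ∀ i, P.coeff i = 0 := fun i => by rw [hP, Polynomial.coeff_zero]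
  have e0 := hc 0
  have e1 := hc 1
  have e2 := hc 2
  have e3 := hc 3
  have e4 := hc 4
  simp [P, Polynomial.coeff_C, Polynomial.coeff_X, Polynomial.coeff_C_mul, Polynomial.coeff_X_pow] at e0 e1 e2 e3 e4
  exact ⟨e0, e1, e2, e3, e4⟩

variable (R) in
/-- the skew map of a pair of vectors -/
def dl (x y : U) : Module.End F U := (polarBilin R x).smulRight y - (polarBilin R y).smulRight x

theorem dl_apply (x y z : U) : dl R x y z = polar R x z • y - polar R y z • x := rfl

/-- skew for the polar form -/
def Sk (R : QuadraticForm F U) (A : Module.End F U) : Prop := ∀ x y, polar R (A x) y + polar R x (A y) = 0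

theorem dl_sk (x y : U) : Sk R (dl R x y) := fun a b => by
  simp only [dl_apply, polar_sub_left, polar_sub_right, polar_smul_left, polar_smul_right, smul_eq_mul,
    polar_comm R a x, polar_comm R a y]
  ring

theorem dl_add_right (x y y' : U) : dl R x (y + y') = dl R x y + dl R x y' := LinearMap.ext fun z => by
  simp only [dl_apply, LinearMap.add_apply, polar_add_left]
  module

theorem dl_smul_right (c : F) (x y : U) : dl R x (c • y) = c • dl R x y := LinearMap.ext fun z => by
  simp only [dl_apply, LinearMap.smul_apply, polar_smul_left, smul_eq_mul]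
  module

theorem dl_add_left (x x' y : U) : dl R (x + x') y = dl R x y + dl R x' y := LinearMap.ext fun z => by
  simp only [dl_apply, LinearMap.add_apply, polar_add_left]
  module

theorem dl_smul_left (c : F) (x y : U) : dl R (c • x) y = c • dl R x y := LinearMap.ext fun z => by
  simp only [dl_apply, LinearMap.smul_apply, polar_smul_left, smul_eq_mul]
  module

theorem dl_self (x : U) : dl R x x = 0 := LinearMap.ext fun z => by simp [dl_apply]

theorem dl_swap (x y : U) : dl R y x = -dl R x y := LinearMap.ext fun z => by simp [dl_apply]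

theorem sk_add {A B : Module.End F U} (hA : Sk R A) (hB : Sk R B) : Sk R (A + B) := fun x y => by
  simp only [LinearMap.add_apply, polar_add_left, polar_add_right]
  linear_combination hA x y + hB x y

theorem sk_smul {A : Module.End F U} (hA : Sk R A) (c : F) : Sk R (c • A) := fun x y => by
  simp only [LinearMap.smul_apply, polar_smul_left, polar_smul_right, smul_eq_mul]
  linear_combination c * hA x y

/-- the bracket of a skew map with the map of a pair -/
theorem br_dl {A : Module.End F U} (hA : Sk R A) (x y : U) :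
    A * dl R x y - dl R x y * A = dl R (A x) y + dl R x (A y) := LinearMap.ext fun z => by
  simp only [LinearMap.sub_apply, Module.End.mul_apply, LinearMap.add_apply, dl_apply, map_sub, map_smul,
    eq_neg_of_add_eq_zero_left (hA x z), eq_neg_of_add_eq_zero_left (hA y z)]
  module

/-- conjugation of the map of a pair -/
theorem conj_dl (k : oG R) (x y z : U) : k.1 (dl R x y ((k⁻¹).1 z)) = dl R (k.1 x) (k.1 y) z := by
  have e : ∀ u, polar R u ((k⁻¹).1 z) = polar R (k.1 u) z := fun u => by
    conv_rhs => rw [← oG_apply_inv k z]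
    rw [polar_oG]
  simp only [dl_apply, map_sub, map_smul, e]

section Frame

variable (fr : Fr R e f h)
include fr

theorem dl1_vals : dl R e h e = 0 ∧ dl R e h f = h ∧ dl R e h h = -((2 * R h) • e) := by
  obtain ⟨v1, -, v3, -, v5, v6⟩ := fr.vals
  refine ⟨?_, ?_, ?_⟩ <;>
    simp only [dl_apply, v1, v3, v5, v6, fr.hef, fr.heh] <;> module

theorem dl0_vals : dl R e f e = -e ∧ dl R e f f = f ∧ dl R e f h = 0 := by
  obtain ⟨v1, v2, -, v4, -, -⟩ := fr.vals
  refine ⟨?_, ?_, ?_⟩ <;>
    simp only [dl_apply, v1, v2, v4, fr.hef, fr.heh, fr.hfh] <;> module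

theorem dl2_vals : dl R h f e = -h ∧ dl R h f f = 0 ∧ dl R h f h = (2 * R h) • f := by
  obtain ⟨-, v2, v3, v4, v5, v6⟩ := fr.vals
  refine ⟨?_, ?_, ?_⟩ <;>
    simp only [dl_apply, v2, v3, v4, v5, v6, fr.hfh] <;> module

/-- coordinates of a combination -/
theorem comb_vals (a b c : F) :
    (a • dl R e h + b • dl R e f + c • dl R h f) e = (-b) • e + (-c) • h ∧
      (a • dl R e h + b • dl R e f + c • dl R h f) f = b • f + a • h ∧
      (a • dl R e h + b • dl R e f + c • dl R h f) h = (-(a * (2 * R h))) • e + (c * (2 * R h)) • f := by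
  obtain ⟨p1, p2, p3⟩ := dl1_vals fr
  obtain ⟨q1, q2, q3⟩ := dl0_vals fr
  obtain ⟨r1, r2, r3⟩ := dl2_vals fr
  refine ⟨?_, ?_, ?_⟩ <;> simp only [LinearMap.add_apply, LinearMap.smul_apply, p1, p2, p3, q1, q2, q3, r1, r2, r3] <;>
    module

theorem sk_decomp (hT : Tri R) {A : Module.End F U} (hA : Sk R A) :
    ∃ a b c : F, A = a • dl R e h + b • dl R e f + c • dl R h f := by
  refine ⟨polar R h (A f) / (2 * R h), -polar R f (A e), -(polar R h (A e) / (2 * R h)), ?_⟩
  have sk : ∀ x y, polar R x (A y) = -polar R y (A x) := fun x y => by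
    rw [polar_comm R y (A x)]
    exact eq_neg_of_add_eq_zero_right (hA x y)
  have sk0 : ∀ x, polar R x (A x) = 0 := fun x =>
    (mul_eq_zero.1 (show (2 : F) * polar R x (A x) = 0 by linear_combination sk x x)).resolve_left hT.two
  obtain ⟨c1, c2, c3⟩ := comb_vals fr (polar R h (A f) / (2 * R h)) (-polar R f (A e))
    (-(polar R h (A e) / (2 * R h)))
  refine fr.ext hT ?_ ?_ ?_
  · rw [c1]
    conv_lhs => rw [fr.decomp hT (A e), sk0]
    module
  · rw [c2]
    conv_lhs => rw [fr.decomp hT (A f), sk0, sk e f]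
    module
  · rw [c3]
    conv_lhs => rw [fr.decomp hT (A h), sk0, sk e h, sk f h, zero_div, zero_smul, add_zero]
    rw [neg_mul, div_mul_cancel₀ _ (fr.two_mul_ne hT), div_mul_cancel₀ _ (fr.two_mul_ne hT)]

theorem comb_inj (hT : Tri R) {a b c : F} (h0 : a • dl R e h + b • dl R e f + c • dl R h f = 0) :
    a = 0 ∧ b = 0 ∧ c = 0 := by
  obtain ⟨c1, c2, -⟩ := comb_vals fr a b c
  rw [h0, LinearMap.zero_apply] at c1 c2
  have k1 := congrArg (polar R f) c1
  have k2 := congrArg (polar R h) c1
  have k3 := congrArg (polar R h) c2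
  obtain ⟨-, -, v3, v4, v5, v6⟩ := fr.vals
  simp only [polar_zero_right, polar_add_right, polar_smul_right, v3, v4, v5, v6, fr.hfh, smul_eq_mul, mul_zero,
    mul_one, add_zero, zero_add] at k1 k2 k3
  exact ⟨(mul_eq_zero.1 k3.symm).resolve_right (fr.two_mul_ne hT), neg_eq_zero.1 k1.symm,
    neg_eq_zero.1 ((mul_eq_zero.1 k2.symm).resolve_right (fr.two_mul_ne hT))⟩

/-- brackets of the basic skew maps -/
theorem br_basic :
    dl R e f * dl R e h - dl R e h * dl R e f = -dl R e h ∧
    dl R e f * dl R h f - dl R h f * dl R e f = dl R h f ∧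
    dl R e h * dl R h f - dl R h f * dl R e h = -((2 * R h) • dl R e f) := by
  obtain ⟨-, p2, p3⟩ := dl1_vals fr
  obtain ⟨q1, q2, q3⟩ := dl0_vals fr
  refine ⟨?_, ?_, ?_⟩ <;> rw [br_dl (dl_sk _ _)]
  · rw [q1, q3, ← neg_one_smul F e, dl_smul_left, show dl R e (0 : U) = 0 by
      rw [← zero_smul F (0 : U), dl_smul_right, zero_smul]]
    module
  · rw [q2, q3, show dl R (0 : U) f = 0 by rw [← zero_smul F (0 : U), dl_smul_left, zero_smul], zero_add]
  · rw [p2, p3, dl_self, add_zero, ← neg_smul, dl_smul_left, neg_smul]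

/-- the bracket of a combination with the basic maps -/
theorem br_comb (a b c : F) :
    let L := a • dl R e h + b • dl R e f + c • dl R h f
    L * dl R e h - dl R e h * L = (-b) • dl R e h + (c * (2 * R h)) • dl R e f ∧
    L * dl R e f - dl R e f * L = a • dl R e h + (-c) • dl R h f ∧
    L * dl R h f - dl R h f * L = (-(a * (2 * R h))) • dl R e f + b • dl R h f := by
  intro L
  obtain ⟨b1, b2, b3⟩ := br_basic fr
  refine ⟨?_, ?_, ?_⟩ <;>
    simp only [L, add_mul, mul_add, smul_mul_assoc, mul_smul_comm]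
  · linear_combination (norm := module) b • b1 - c • b3
  · linear_combination (norm := module) -(a • b1) - c • b2
  · linear_combination (norm := module) a • b3 + b • b2

/-- a skew map whose square bracket kills two basic maps is zero -/
theorem ad_zero (hT : Tri R) {L : Module.End F U} (hL : Sk R L)
    (h1 : L * (L * dl R e h - dl R e h * L) - (L * dl R e h - dl R e h * L) * L = 0)
    (h2 : L * (L * dl R h f - dl R h f * L) - (L * dl R h f - dl R h f * L) * L = 0) : L = 0 := by
  obtain ⟨a, b, c, rfl⟩ := sk_decomp fr hT hL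
  obtain ⟨b1, b0, b2⟩ := br_comb fr a b c
  set L := a • dl R e h + b • dl R e f + c • dl R h f
  have hne := fr.two_mul_ne hT
  have e1 : (b * b + a * c * (2 * R h)) • dl R e h + (-(b * c * (2 * R h))) • dl R e f +
      (-(c * c * (2 * R h))) • dl R h f = 0 := by
    rw [b1] at h1
    simp only [mul_add, add_mul, mul_smul_comm, smul_mul_assoc] at h1
    linear_combination (norm := module) h1 + b • b1 - (c * (2 * R h)) • b0
  obtain ⟨x1, -, x3⟩ := comb_inj fr hT e1
  have hc : c = 0 := by simpa [hne] using x3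
  have hb : b = 0 := by simpa [hc] using x1
  have e2 : (-(a * a * (2 * R h))) • dl R e h + (-(a * b * (2 * R h))) • dl R e f +
      (b * b + a * c * (2 * R h)) • dl R h f = 0 := by
    rw [b2] at h2
    simp only [mul_add, add_mul, mul_smul_comm, smul_mul_assoc] at h2
    linear_combination (norm := module) h2 + (a * (2 * R h)) • b0 - b • b2
  obtain ⟨y1, -, -⟩ := comb_inj fr hT e2
  have ha : a = 0 := by simpa [hne] using y1
  simp [L, ha, hb, hc]

/-- the square bracket of a basic map lies in its line -/
theorem ad_line (hT : Tri R) {L : Module.End F U} (hL : Sk R L) :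
    ∃ r : F, dl R e h * (dl R e h * L - L * dl R e h) - (dl R e h * L - L * dl R e h) * dl R e h = r • dl R e h := by
  obtain ⟨a, b, c, rfl⟩ := sk_decomp fr hT hL
  obtain ⟨b1, -, -⟩ := br_comb fr a b c
  refine ⟨-(c * (2 * R h)), ?_⟩
  obtain ⟨q1, -, -⟩ := br_basic fr
  rw [show dl R e h * (a • dl R e h + b • dl R e f + c • dl R h f) - (a • dl R e h + b • dl R e f + c • dl R h f) * dl R e h
    = -((-b) • dl R e h + (c * (2 * R h)) • dl R e f) by rw [← b1]; abel]
  simp only [mul_neg, neg_mul, mul_add, add_mul, mul_smul_comm, smul_mul_assoc]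
  linear_combination (norm := module) (c * (2 * R h)) • q1

/-- the action of the unipotent group on the basic maps -/
theorem tr3_dl (t : F) :
    dl R ((tr3 fr t).1 e) ((tr3 fr t).1 h) = dl R e h ∧
    dl R ((tr3 fr t).1 e) ((tr3 fr t).1 f) = dl R e f + (-t) • dl R e h ∧
    dl R ((tr3 fr t).1 h) ((tr3 fr t).1 f) =
      dl R h f + (2 * R h * t) • dl R e f + (-(R h * t * t)) • dl R e h := by
  rw [tr3_e, tr3_h, tr3_f]
  simp only [sub_eq_add_neg, ← neg_smul, dl_add_left, dl_add_right, dl_smul_left, dl_smul_right, dl_self,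
    dl_swap (R := R) e h]
  refine ⟨?_, ?_, ?_⟩ <;> module

end Frame

variable [Finite F]

/-- an additive group of skew maps, invariant under the commutator subgroup, with a non-zero element, contains all
maps of pairs -/
theorem all_of_invariant (hT : Tri R) (A : AddSubgroup (Module.End F U)) (hsk : ∀ a ∈ A, Sk R a)
    (hinv : ∀ k ∈ commutator (oG R), ∀ a ∈ A,
      (k.1 : U →ₗ[F] U).comp (a.comp ((k⁻¹).1 : U →ₗ[F] U)) ∈ A)
    {a₀ : Module.End F U} (ha₀ : a₀ ∈ A) (hne : a₀ ≠ 0) (x y : U) : dl R x y ∈ A := by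
  have h2 : (2 : F) ≠ 0 := hT.two
  have step : ∀ {e f h : U} (fr : Fr R e f h) {δ : Module.End F U}, δ ∈ A → ∀ t : F, ∀ a b c : F,
      δ = a • dl R e h + b • dl R e f + c • dl R h f →
      (-(2 * b * t)) • dl R e h + (4 * R h * c * t) • dl R e f ∈ A := by
    intro e f h fr δ hδ t a b c hd
    have key : ∀ t : F, (k : oG R) → k = tr3 fr t → (k.1 : U →ₗ[F] U).comp (δ.comp ((k⁻¹).1 : U →ₗ[F] U)) =
        (a + b * -t + c * -(R h * t * t)) • dl R e h + (b + c * (2 * R h * t)) • dl R e f + c • dl R h f := by
      intro t k hk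
      subst hk
      refine LinearMap.ext fun z => ?_
      simp only [hd, LinearMap.comp_apply, LinearMap.add_apply, LinearMap.smul_apply, map_add, map_smul,
        LinearEquiv.coe_coe, conj_dl]
      obtain ⟨d1, d0, d2⟩ := tr3_dl fr t
      rw [d1, d0, d2]
      simp only [LinearMap.add_apply, LinearMap.smul_apply]
      module
    have h1 := A.sub_mem (hinv _ (tr3_mem fr hT t) δ hδ) (hinv _ (tr3_mem fr hT (-t)) δ hδ)
    rw [key t _ rfl, key (-t) _ rfl] at h1
    convert h1 using 1
    module
  have line : ∀ {e f h : U}, Fr R e f h → ∀ {δ : Module.End F U}, δ ∈ A → ∀ a b c : F,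
      δ = a • dl R e h + b • dl R e f + c • dl R h f → (b ≠ 0 ∨ c ≠ 0) → ∀ s : F, s • dl R e h ∈ A := by
    intro e f h fr δ hδ a b c hd hbc s
    by_cases hc : c = 0
    · have h1 := step fr hδ (-s / (2 * b)) a b c hd
      have hb := hbc.resolve_right (not_not.2 hc)
      convert h1 using 1
      rw [hc]
      match_scalars <;> field_simp <;> ring
    · have h1 := step fr hδ 1 a b c hd
      have h2' := step fr h1 (-s / (8 * R h * c)) (-(2 * b * 1)) (4 * R h * c * 1) 0 (by rw [zero_smul, add_zero])
      convert h2' using 1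
      have := fr.hh
      have h8 : (8 : F) ≠ 0 := by
        rw [show (8 : F) = 2 * 2 * 2 by norm_num]
        exact mul_ne_zero (mul_ne_zero h2 h2) h2
      match_scalars <;> field_simp <;> ring
  obtain ⟨e, f, h, fr⟩ := exists_fr hT
  obtain ⟨a, b, c, hd⟩ := sk_decomp fr hT (hsk _ ha₀)
  -- some basic line
  obtain ⟨e₁, f₁, h₁, fr₁, hl₁⟩ : ∃ e₁ f₁ h₁, Fr R e₁ f₁ h₁ ∧ ∀ s : F, s • dl R e₁ h₁ ∈ A := by
    by_cases hbc : b ≠ 0 ∨ c ≠ 0
    · exact ⟨e, f, h, fr, line fr ha₀ a b c hd hbc⟩
    · push Not at hbc
      refine ⟨f, e, h, fr.symm, line fr.symm ha₀ (-c) (-b) (-a) ?_ (Or.inr fun h' => hne ?_)⟩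
      · rw [hd, dl_swap (R := R) e f, dl_swap (R := R) h f, dl_swap (R := R) e h]
        module
      · rw [hd, hbc.1, hbc.2, neg_eq_zero.1 h']
        module
  -- every frame
  have all : ∀ {e f h : U}, Fr R e f h → ∀ s : F, s • dl R e h ∈ A := by
    intro e f h fr s
    obtain ⟨k, hk, t, ht, hkt⟩ := trans_line hT fr₁.e_ne fr₁.he fr.e_ne fr.he
    have hm : ∀ s : F, s • dl R (k.1 e₁) (k.1 h₁) ∈ A := fun s => by
      have h1 := hinv k hk _ (hl₁ s)
      convert h1 using 1
      refine LinearMap.ext fun z => ?_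
      simp only [LinearMap.smul_apply, LinearMap.comp_apply, map_smul, LinearEquiv.coe_coe, conj_dl]
    have hp : polar R e (k.1 h₁) = 0 := by
      have := polar_oG k e₁ h₁
      rw [hkt, fr₁.heh, polar_smul_left, smul_eq_mul] at this
      exact (mul_eq_zero.1 this).resolve_left ht
    have hkh := fr.decomp hT (k.1 h₁)
    rw [hp, zero_smul, add_zero] at hkh
    set γ := polar R h (k.1 h₁) / (2 * R h)
    have hγ : γ ≠ 0 := fun e' => fr₁.hh (by
      rw [← k.2, hkh, e', zero_smul, add_zero, Quad.map_smul', fr.he, mul_zero])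
    have h1 := hm (s / (t * γ))
    rw [hkt, hkh, dl_smul_left, dl_add_right, dl_smul_right, dl_smul_right, dl_self] at h1
    convert h1 using 1
    match_scalars
    field_simp
  have l1 := all fr
  have l2 : ∀ s : F, s • dl R h f ∈ A := fun s => by
    have h1 := all fr.symm (-s)
    rwa [dl_swap (R := R) h f, neg_smul_neg] at h1
  have l0 : ∀ s : F, s • dl R e f ∈ A := fun s => by
    have h1 := hinv _ (tr3_mem fr hT 1) _ (l2 (s / (2 * R h)))
    have h2' := A.add_mem (A.sub_mem h1 (l2 (s / (2 * R h)))) (l1 (s / 2))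
    convert h2' using 1
    refine LinearMap.ext fun z => ?_
    obtain ⟨-, -, d2⟩ := tr3_dl fr 1
    simp only [LinearMap.smul_apply, LinearMap.comp_apply, map_smul, LinearEquiv.coe_coe, conj_dl, d2,
      LinearMap.add_apply, LinearMap.sub_apply]
    have := fr.hh
    match_scalars <;> field_simp <;> ring
  obtain ⟨a', b', c', hd'⟩ := sk_decomp fr hT (dl_sk (R := R) x y)
  rw [hd']
  exact A.add_mem (A.add_mem (l1 a') (l0 b')) (l2 c')

/-- a self-adjoint map commuting with its conjugates is a scalar -/
theorem scalar_of_comm (hT : Tri R) (α : Module.End F U) (hsa : ∀ x y, polar R (α x) y = polar R x (α y))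
    (hc : ∀ k ∈ commutator (oG R), ∀ x, α (k.1 (α ((k⁻¹).1 x))) = k.1 (α ((k⁻¹).1 (α x)))) :
    ∃ σ : F, ∀ x, α x = σ • x := by
  have hw : ∀ {e f h : U}, Fr R e f h → polar R e (α e) = 0 := by
    intro e f h fr
    set θ := R h
    let N : Module.End F U := (polarBilin R h).smulRight e - (polarBilin R e).smulRight h
    let M : Module.End F U := (-θ) • (polarBilin R e).smulRight e
    have hu : ∀ (t : F) (x : U), (tr3 fr t).1 x = x + t • N x + t ^ 2 • M x := fun t x => by
      simp only [N, M, tr3_apply, LinearMap.sub_apply, LinearMap.smul_apply, LinearMap.smulRight_apply,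
        polarBilin_apply_apply, polar_comm R x h]
      module
    let T : F → U → U := fun t x => x + t • N x + t ^ 2 • M x
    have hinv : ∀ (t : F) (x : U), ((tr3 fr t)⁻¹).1 x = x + (-t) • N x + (-t) ^ 2 • M x := fun t x => by
      rw [tr3_inv, hu]
    have hM : M (α f) = -(θ * polar R e (α f)) • e := by
      simp only [M, LinearMap.smul_apply, LinearMap.smulRight_apply, polarBilin_apply_apply, smul_smul, neg_mul]
    have hMf : M f = -θ • e := by
      simp only [M, LinearMap.smul_apply, LinearMap.smulRight_apply, polarBilin_apply_apply, fr.hef, one_smul]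
    have key : ∀ y, polar R y (α (M (α (M f))) - M (α (M (α f)))) = 0 := fun y => by
      let C0 : U → U := fun x => α (α x)
      let A1 : U → U := fun x => N (α x) - α (N x)
      let A2 : U → U := fun x => M (α x) + α (M x) - N (α (N x))
      let A3 : U → U := fun x => N (α (M x)) - M (α (N x))
      let A4 : U → U := fun x => M (α (M x))
      have := fun t => congrArg (polar R y) (sub_eq_zero.2 (hc _ (tr3_mem fr hT t) f))
      refine (quartic_zero hT.q5 (c0 := 0) (c1 := polar R y (α (A1 f) - A1 (α f)))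
        (c2 := polar R y (α (A2 f) - A2 (α f))) (c3 := polar R y (α (A3 f) - A3 (α f))) fun t => ?_).2.2.2.2
      have h1 := this t
      simp only [hinv, hu, map_add, map_smul, polar_zero_right, polar_sub_right, polar_add_right, polar_smul_right,
        smul_eq_mul] at h1
      simp only [A1, A2, A3, map_add, map_sub, polar_sub_right, polar_add_right]
      linear_combination h1
    by_contra hne
    have hMM : ∀ z, M z = -(θ * polar R e z) • e := fun z => by
      simp only [M, LinearMap.smul_apply, LinearMap.smulRight_apply, polarBilin_apply_apply, smul_smul, neg_mul]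
    have hev : α (M (α (M f))) - M (α (M (α f))) =
        (θ * θ * polar R e (α e)) • (α e - polar R e (α f) • e) := by
      simp only [hMf, hM, map_smul, map_neg, hMM (α e)]
      module
    have e0 : α e - polar R e (α f) • e = 0 := hT.nd.2 _ fun y => by
      have h1 := key y
      rw [hev, polar_smul_right, smul_eq_mul] at h1
      exact (mul_eq_zero.1 h1).resolve_left (mul_ne_zero (mul_ne_zero fr.hh fr.hh) hne)
    apply hne
    rw [sub_eq_zero.1 e0, polar_smul_right, fr.vals.1, smul_zero]
  obtain ⟨e, f, h, fr⟩ := exists_fr hT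
  have we := hw fr
  have wf := hw fr.symm
  have hcomm : ∀ x y, polar R x (α y) = polar R y (α x) := fun x y => by rw [polar_comm R y, hsa]
  have hv : ∀ s : F, 0 + s * (-2 * polar R f (α h)) + s ^ 2 * (polar R h (α h) - 2 * R h * polar R f (α e)) +
      s ^ 3 * (2 * R h * polar R e (α h)) + s ^ 4 * 0 = 0 := fun s => by
    have h1 := hw (fr.symm.map (tr3 fr s))
    simp only [tr3_f, map_sub, map_smul, polar_sub_left, polar_sub_right, polar_smul_left, polar_smul_right,
      smul_eq_mul, we, wf, hcomm e f, hcomm h f, hcomm h e] at h1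
    linear_combination h1
  obtain ⟨-, r1, r2, r3, -⟩ := quartic_zero hT.q5 hv
  have q1 : polar R f (α h) = 0 := (mul_eq_zero.1 r1).resolve_left (neg_ne_zero.2 hT.two)
  have q3 : polar R e (α h) = 0 := (mul_eq_zero.1 r3).resolve_left (fr.two_mul_ne hT)
  refine ⟨polar R f (α e), fun x => ?_⟩
  refine LinearMap.congr_fun (fr.ext hT (A := α) (B := polar R f (α e) • LinearMap.id) ?_ ?_ ?_) x
  · conv_lhs => rw [fr.decomp hT (α e), we, hcomm h e, q3, zero_div, zero_smul, zero_smul, add_zero, add_zero]
    rfl
  · conv_lhs => rw [fr.decomp hT (α f), wf, hcomm e f, hcomm h f, q1, zero_div, zero_smul, zero_smul, add_zero, zero_add]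
    rfl
  · conv_lhs => rw [fr.decomp hT (α h), q1, q3, sub_eq_zero.1 r2, mul_div_cancel_left₀ _ (fr.two_mul_ne hT), zero_smul,
      zero_smul, zero_add, zero_add]
    rfl

end Cfsg.Agent.ClassicalMax.OTensor3
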