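import Cfsg.Agent.ClassicalMax.OTensor3.Root

/-!
An overgroup without root elements: the layer group of a space `e ⊗ W` is the unipotent group of the first factor, and
an element carrying one such space onto another carries pure tensors to pure tensors.
-/

set_option autoImplicit false
set_option linter.unusedSectionVars false
set_option linter.style.haveILetI false

namespace Cfsg.Agent.ClassicalMax.OTensor3

open Module QuadraticMap Cfsg.Agent.Classical Cfsg.Agent.Classical.Quad Cfsg.Agent.ClassicalMax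

variable {F U W V : Type*} [Field F] [Finite F] [AddCommGroup U] [Module F U] [FiniteDimensional F U]
  [AddCommGroup W] [Module F W] [FiniteDimensional F W] [AddCommGroup V] [Module F V] [FiniteDimensional F V]
  {Q : QuadraticForm F V} {QU : QuadraticForm F U} {QW : QuadraticForm F W} {pt : U →ₗ[F] W →ₗ[F] V}
  {H : Subgroup (oG Q)} {e f h : U}

namespace Setting

variable (hS : Setting Q QU QW pt)
include hS

/-- an element of `H` trivial on `e ⊗ W` and on the quotient of its orthogonal by it is unipotent of the first factor -/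
theorem rad_eq (hN : NoRoot pt QU H) (hO : OTensor.Over pt H) (fr : Fr QU e f h) {g : oG Q} (hg : g ∈ H)
    (he : ∀ y, g.1 (pt e y) = pt e y) (hh : ∀ y, ∃ w, g.1 (pt h y) = pt h y + pt e w) :
    ∃ t, g = hS.uL fr t := by
  obtain ⟨v1, v2, v3, v4, v5, v6⟩ := fr.vals
  set θ := QU h
  have hne : 2 * θ ≠ 0 := fr.two_mul_ne hS.triU
  let Rd : oG Q → Prop := fun g =>
    g ∈ H ∧ (∀ y, g.1 (pt e y) = pt e y) ∧ ∀ y, ∃ w, g.1 (pt h y) = pt h y + pt e w
  let A : oG Q → Module.End F W := fun g => (hS.pU f).comp ((g.1 : V →ₗ[F] V).comp (pt h))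
  let P : oG Q → Module.End F W := fun g => (2 * θ)⁻¹ • (hS.pU h).comp ((g.1 : V →ₗ[F] V).comp (pt f))
  let D : oG Q → Module.End F W := fun g => (hS.pU f).comp ((g.1 : V →ₗ[F] V).comp (pt f))
  have cH : ∀ g, Rd g → ∀ y, g.1 (pt h y) = pt h y + pt e (A g y) := fun g hr y => by
    obtain ⟨w, hw⟩ := hr.2.2 y
    have : A g y = w := by
      show hS.pU f (g.1 (pt h y)) = w
      rw [hw, map_add, hS.pU_pt, hS.pU_pt, fr.hfh, v4, zero_smul, one_smul, zero_add]
    rw [this, hw]
  have cF : ∀ g, Rd g → ∀ y, g.1 (pt f y) = pt f y + pt h (P g y) + pt e (D g y) := fun g hr y => by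
    have he1 : hS.pU e (g.1 (pt f y)) = y := hS.eqW fun w => by
      rw [hS.polar_pU]
      conv_lhs => rw [← hr.2.1 w, polar_oG, hS.prod, fr.hef, one_mul, polar_comm]
    conv_lhs => rw [hS.decompV fr (g.1 (pt f y)), he1]
    show pt e (D g y) + pt f y + pt h (P g y) = _
    abel
  have same : ∀ {a b : oG Q}, a ∈ H → b ∈ H → (∀ y, a.1 (pt e y) = b.1 (pt e y)) →
      (∀ y, a.1 (pt h y) = b.1 (pt h y)) → a = b := fun {a b} ha hb h1 h2 =>
    (inv_mul_eq_one.1 (hN e f h fr _ (mul_mem (inv_mem hb) ha)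
      (fun y => by rw [oG_mul_apply, h1, oG_inv_apply]) (fun y => by rw [oG_mul_apply, h2, oG_inv_apply]))).symm
  have huH : ∀ t, hS.uL fr t ∈ H := fun t => hS.uL_mem hO fr t
  have hcu : ∀ g, Rd g → ∀ y, A g y = -((2 * θ) • P g y) := fun g hr y => by
    have h1 : g * hS.uL fr 1 = hS.uL fr 1 * g := same (mul_mem hr.1 (huH 1)) (mul_mem (huH 1) hr.1)
      (fun y => by rw [oG_mul_apply, oG_mul_apply, hS.uL_e, hr.2.1, hS.uL_e])
      (fun y => by
        rw [oG_mul_apply, oG_mul_apply, hS.uL_h, cH g hr, map_add, map_add, map_smul, hr.2.1, cH g hr, hS.uL_h,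
          hS.uL_e]
        abel)
    have h2 := congrArg (fun k : oG Q => hS.pU f (k.1 (pt f y))) h1
    simp only [oG_mul_apply, hS.uL_f, cF g hr, map_add, map_sub, map_smul, hr.2.1, cH g hr, hS.uL_e, hS.uL_h,
      hS.pU_pt, v2, v4, fr.hfh, zero_smul, one_smul, smul_zero, mul_one, zero_add, add_zero, sub_zero, zero_sub] at h2
    linear_combination (norm := module) -h2
  have hsa : ∀ g, Rd g → ∀ y z, polar QW (A g y) z = polar QW y (A g z) := fun g hr y z => by
    have h1 := polar_oG g (pt h y) (pt f z)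
    simp only [cH g hr, cF g hr, polar_add_left, polar_add_right, hS.prod, v1, v3, v5, v6, fr.heh, fr.hef,
      zero_mul, one_mul, add_zero, zero_add] at h1
    rw [hcu g hr z, polar_neg_right, polar_smul_right, smul_eq_mul]
    linear_combination h1
  have hcomm : ∀ g g', Rd g → Rd g' → ∀ y, A g (A g' y) = A g' (A g y) := fun g g' hr hr' y => by
    have h1 : g * g' = g' * g := same (mul_mem hr.1 hr'.1) (mul_mem hr'.1 hr.1)
      (fun y => by rw [oG_mul_apply, oG_mul_apply, hr'.2.1, hr.2.1, hr'.2.1])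
      (fun y => by
        rw [oG_mul_apply, oG_mul_apply, cH g' hr', cH g hr, map_add, map_add, cH g hr, cH g' hr', hr.2.1, hr'.2.1]
        abel)
    have h2 := congrArg (fun k : oG Q => hS.pU f (k.1 (pt f y))) h1
    simp only [oG_mul_apply, cF g hr, cF g' hr', map_add, hr.2.1, hr'.2.1, cH g hr, cH g' hr', hS.pU_pt, v2, v4,
      fr.hfh, zero_smul, one_smul, zero_add, add_zero] at h2
    have h3 : A g (P g' y) = A g' (P g y) := by linear_combination (norm := abel) h2
    rw [hcu g' hr' y, hcu g hr y, map_neg, map_neg, map_smul, map_smul, h3]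
  have hR : Rd g := ⟨hg, he, hh⟩
  obtain ⟨σ, hσ⟩ := scalar_of_comm hS.triW (A g) (hsa g hR) fun k hk x => by
    set m := hS.lp (1, k)
    have hmH : m ∈ H := hO.lp_memC hS.toCore (one_mem _) hk
    have hm : ∀ u y, m.1 (pt u y) = pt u (k.1 y) := fun u y => by rw [hS.lp_pt]; rfl
    have hm' : ∀ u y, (m⁻¹).1 (pt u y) = pt u ((k⁻¹).1 y) := fun u y => m.1.injective (by
      rw [oG_apply_inv, hm, oG_apply_inv])
    have hR' : Rd (m * g * m⁻¹) := ⟨mul_mem (mul_mem hmH hg) (inv_mem hmH),
      fun y => by rw [oG_mul_apply, oG_mul_apply, hm', he, hm, oG_apply_inv],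
      fun y => ⟨k.1 (A g ((k⁻¹).1 y)), by
        rw [oG_mul_apply, oG_mul_apply, hm', cH g hR, map_add, hm, hm, oG_apply_inv]⟩⟩
    have e1 : ∀ y, A (m * g * m⁻¹) y = k.1 (A g ((k⁻¹).1 y)) := fun y => by
      show hS.pU f ((m * g * m⁻¹).1 (pt h y)) = _
      rw [oG_mul_apply, oG_mul_apply, hm', cH g hR, map_add, hm, hm, oG_apply_inv, map_add, hS.pU_pt, hS.pU_pt, v4,
        fr.hfh, zero_smul, one_smul, zero_add]
    have := hcomm g _ hR hR' x
    rwa [e1, e1] at this
  refine ⟨σ / (2 * θ), same hg (huH _) (fun y => by rw [he, hS.uL_e]) fun y => ?_⟩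
  rw [cH g hR, hσ, hS.uL_h, map_smul, mul_div_cancel₀ _ hne]

variable {U' W' : Type*} [AddCommGroup U'] [Module F U'] [FiniteDimensional F U'] [AddCommGroup W'] [Module F W']
  [FiniteDimensional F W'] {QU' : QuadraticForm F U'} {QW' : QuadraticForm F W'} {pt' : U' →ₗ[F] W' →ₗ[F] V}
  {e' f' h' : U'}

/-- an element of the overgroup carrying `e' ⊗ W'` onto `e ⊗ W` carries pure tensors to pure tensors -/
theorem maps_of_stab (hS' : Setting Q QU' QW' pt') (hle : H ≤ commutator (oG Q))
    (hnorm : ∀ g ∈ commutator (oG Q), g ∈ NS Q pt → g ∈ H)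
    (hNS : ∀ g : oG Q, Maps pt' pt g.1 → g ∈ NS Q pt)
    (hN : NoRoot pt QU H) (hN' : NoRoot pt' QU' H) (hO : OTensor.Over pt H) (hO' : OTensor.Over pt' H)
    (fr : Fr QU e f h) (fr' : Fr QU' e' f' h') {n : oG Q} (hn : n ∈ H) (hst : ∀ y, ∃ w, n.1 (pt' e' y) = pt e w) :
    Maps pt' pt n.1 := by
  obtain ⟨v1, v2, v3, v4, v5, v6⟩ := fr.vals
  obtain ⟨v1', v2', v3', v4', v5', v6'⟩ := fr'.vals
  set θ := QU h
  set θ' := QU' h'
  have hne : 2 * θ ≠ 0 := fr.two_mul_ne hS.triU
  have hne' : 2 * θ' ≠ 0 := fr'.two_mul_ne hS'.triU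
  let A : W' →ₗ[F] W := (hS.pU f).comp ((n.1 : V →ₗ[F] V).comp (pt' e'))
  have hA : ∀ y, n.1 (pt' e' y) = pt e (A y) := fun y => by
    obtain ⟨w, hw⟩ := hst y
    have : A y = w := by
      show hS.pU f (n.1 (pt' e' y)) = w
      rw [hw, hS.pU_pt, v4, one_smul]
    rw [this, hw]
  have hAinj : Function.Injective A := fun y y' e0 =>
    hS'.pt_inj fr'.e_ne (n.1.injective (by rw [hA, hA, e0]))
  have hAsur : Function.Surjective A :=
    (LinearMap.injective_iff_surjective_of_finrank_eq_finrank (by rw [hS.dimW, hS'.dimW])).1 hAinj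
  -- the conjugate of a unipotent element
  set u' := hS'.uL fr' 1
  have huH : u' ∈ H := hS'.uL_mem hO' fr' 1
  obtain ⟨c, hc⟩ := hS.rad_eq hN hO fr (g := n * u' * n⁻¹) (mul_mem (mul_mem hn huH) (inv_mem hn))
    (fun y => by
      obtain ⟨y', rfl⟩ := hAsur y
      rw [← hA, oG_mul_apply, oG_mul_apply, oG_inv_apply, hS'.uL_e])
    (fun y => by
      set z := (n⁻¹).1 (pt h y) with hz
      have h0 : hS'.pU e' z = 0 := hS'.eqW fun w => by
        rw [hS'.polar_pU, polar_zero_left]
        conv_lhs => rw [← polar_oG n, hA, hz, oG_apply_inv, hS.prod, fr.heh, zero_mul]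
      refine ⟨A (hS'.pU h' z), ?_⟩
      rw [oG_mul_apply, oG_mul_apply, ← hz, hS'.uL_apply fr', h0, map_zero, sub_zero, map_zero, smul_zero, smul_zero,
        add_zero, one_smul, map_add, hA, hz, oG_apply_inv])
  have hrel : ∀ z, n.1 (u'.1 z) = (hS.uL fr c).1 (n.1 z) := fun z => by
    rw [← hc, oG_mul_apply, oG_mul_apply, oG_inv_apply]
  have hhp : ∀ y, hS.pU e (n.1 (pt' h' y)) = 0 := fun y => hS.eqW fun w => by
    obtain ⟨w', rfl⟩ := hAsur w
    rw [hS.polar_pU, polar_zero_left, ← hA, polar_oG, hS'.prod, fr'.heh, zero_mul]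
  have hn1 : ∀ y, (2 * θ') • A y = c • hS.pU h (n.1 (pt' h' y)) := fun y => by
    have h1 := hrel (pt' h' y)
    rw [hS'.uL_h, map_add, map_smul, hA, mul_one, hS.uL_apply fr c (n.1 _), hhp, map_zero, sub_zero, map_zero,
      smul_zero, smul_zero, add_zero, add_right_inj, ← (pt e).map_smul, ← (pt e).map_smul] at h1
    exact hS.pt_inj fr.e_ne h1
  have hc0 : c ≠ 0 := fun e0 => by
    obtain ⟨w, hw0⟩ : ∃ w : W', w ≠ 0 :=
      (Module.nontrivial_of_finrank_pos (R := F) (by rw [hS'.dimW]; norm_num)).exists_pair_ne.elim fun a h =>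
        h.elim fun b hab => ⟨a - b, sub_ne_zero.2 hab⟩
    have := hn1 w
    rw [e0, zero_smul, smul_eq_zero, or_iff_right hne'] at this
    exact hw0 (hAinj (by rw [this, map_zero]))
  set ρ := θ' / (θ * c) with hρ
  have hρ0 : ρ ≠ 0 := div_ne_zero fr'.hh (mul_ne_zero fr.hh hc0)
  let α : W' →ₗ[F] W := (hS.pU f).comp ((n.1 : V →ₗ[F] V).comp (pt' h'))
  have hnh : ∀ y, n.1 (pt' h' y) = pt e (α y) + pt h (ρ • A y) := fun y => by
    conv_lhs => rw [hS.decompV fr (n.1 (pt' h' y)), hhp, map_zero, add_zero]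
    rw [show (2 * θ)⁻¹ • hS.pU h (n.1 (pt' h' y)) = ρ • A y by
      rw [← inv_smul_smul₀ hc0 (hS.pU h (n.1 (pt' h' y))), ← hn1, smul_smul, smul_smul, hρ]
      congr 1
      have := hS.two
      field_simp]
    rfl
  -- similitude
  set μ := θ' / (θ * (ρ * ρ)) with hμ
  have hμ0 : μ ≠ 0 := div_ne_zero fr'.hh (mul_ne_zero fr.hh (mul_ne_zero hρ0 hρ0))
  have hAs : ∀ y z, polar QW (A y) (A z) = μ * polar QW' y z := fun y z => by
    have h1 := polar_oG n (pt' h' y) (pt' h' z)
    simp only [hnh, polar_add_left, polar_add_right, hS.prod, hS'.prod, v1, v5, fr.heh, v3, v3', polar_smul_left,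
      polar_smul_right, smul_eq_mul, zero_mul, mul_zero, zero_add, add_zero] at h1
    have hθ : θ ≠ 0 := fr.hh
    refine mul_left_cancel₀ (mul_ne_zero hS.two (mul_ne_zero hθ (mul_ne_zero hρ0 hρ0))) ?_
    rw [hμ]
    have hθ' : θ' ≠ 0 := fr'.hh
    clear_value μ
    clear_value ρ
    clear_value θ θ'
    field_simp
    linear_combination h1
  let a0 : U' →ₗ[F] U := (polarBilin QU' f').smulRight e + μ⁻¹ • (polarBilin QU' e').smulRight f +
    (ρ / (2 * θ')) • (polarBilin QU' h').smulRight h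
  have ha0 : ∀ x, a0 x = polar QU' f' x • e + (μ⁻¹ * polar QU' e' x) • f + (ρ * (polar QU' h' x / (2 * θ'))) • h :=
    fun x => by
      simp only [a0, LinearMap.add_apply, LinearMap.smul_apply, LinearMap.smulRight_apply, polarBilin_apply_apply,
        smul_smul]
      congr 2
      ring
  have ha0s : ∀ x x', polar QU (a0 x) (a0 x') = μ⁻¹ * polar QU' x x' := fun x x' => by
    rw [ha0, ha0]
    conv_rhs => rw [fr'.decomp hS'.triU x, fr'.decomp hS'.triU x']
    simp only [polar_add_left, polar_add_right, polar_smul_left, polar_smul_right, smul_eq_mul, v1, v2, v3, v4, v5,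
      v6, v1', v2', v3', v4', v5', v6', fr.hef, fr.heh, fr.hfh, fr'.hef, fr'.heh, fr'.hfh,
      show QU' h' = θ' from rfl]
    rw [show μ⁻¹ = θ * (ρ * ρ) / θ' by rw [hμ, inv_div]]
    have hθ' : θ' ≠ 0 := fr'.hh
    have := hS.two
    field_simp
    ring
  let n₁ : V →ₗ[F] V := (pt e).comp (A.comp (hS'.pU f')) + μ⁻¹ • (pt f).comp (A.comp (hS'.pU e')) +
    (ρ / (2 * θ')) • (pt h).comp (A.comp (hS'.pU h'))
  have hn₁ : ∀ x y, n₁ (pt' x y) = pt (a0 x) (A y) := fun x y => by
    simp only [n₁, a0, LinearMap.add_apply, LinearMap.comp_apply, LinearMap.smul_apply, hS'.pU_pt, map_smul, map_add,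
      LinearMap.smulRight_apply, polarBilin_apply_apply, smul_smul]
  have hn₁p : ∀ z z', polar Q (n₁ z) (n₁ z') = polar Q z z' := by
    have h1 : (polarBilin Q).compl₁₂ n₁ n₁ = polarBilin Q := hS'.ext_pure fun x y => hS'.ext_pure fun x' y' => by
      show polar Q (n₁ (pt' x y)) (n₁ (pt' x' y')) = polar Q (pt' x y) (pt' x' y')
      rw [hn₁, hn₁, hS.prod, hS'.prod, ha0s, hAs]
      field_simp
    exact fun z z' => LinearMap.congr_fun₂ h1 z z'
  have hn₁i : Function.Injective n₁ := (injective_iff_map_eq_zero n₁).2 fun z hz => hS.nd.1 z fun z' => by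
    show polar Q z z' = 0
    rw [← hn₁p, hz, polar_zero_left]
  let n0 : oG Q := ⟨LinearEquiv.ofInjectiveEndo n₁ hn₁i, fun z => by
    have h2 := hn₁p z z
    rw [polar_self', polar_self'] at h2
    show Q (n₁ z) = Q z
    exact mul_left_cancel₀ hS.two h2⟩
  have hn0 : ∀ x y, n0.1 (pt' x y) = pt (a0 x) (A y) := hn₁
  -- the remaining factor
  set o := n0⁻¹ * n
  have ho : ∀ z, n.1 z = n0.1 (o.1 z) := fun z => by rw [oG_mul_apply, oG_apply_inv]
  have hoe : ∀ y, o.1 (pt' e' y) = pt' e' y := fun y => n0.1.injective (by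
    rw [← ho, hA, hn0, ha0, v1', v4', v5']
    simp [polar_comm QU' h' e', fr'.heh])
  have hoh : ∀ y, ∃ w, o.1 (pt' h' y) = pt' h' y + pt' e' w := fun y => by
    obtain ⟨w, hw⟩ := hAsur (α y)
    refine ⟨w, n0.1.injective ?_⟩
    rw [← ho, hnh, map_add, hn0, hn0, hw, ha0, ha0, v1', v3', v4', v5', fr'.heh, fr'.hfh,
      div_self hne']
    simp only [map_smul, mul_one, mul_zero, zero_div, zero_smul, one_smul, add_zero, zero_add, LinearMap.smul_apply]
    abel
  have hoC : o ∈ commutator (oG Q) := by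
    obtain ⟨p, hp⟩ := CharP.exists F
    haveI := hp
    have hpp : p.Prime := (CharP.char_is_prime_or_zero F p).resolve_right fun e => by
      subst e
      haveI := CharP.charP_to_charZero F
      exact not_finite F
    haveI := Fact.mk hpp
    haveI : Finite V := Module.finite_of_finite F
    have hp3 : 3 ≤ p := by
      have := hpp.two_le
      obtain ⟨k, hk⟩ := odd_char (F := F) (p := p) hS.triU
      omega
    let N : Module.End F V := (o.1 : V →ₗ[F] V) - 1
    have hNe : ∀ y, N (pt' e' y) = 0 := fun y => by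
      show o.1 (pt' e' y) - pt' e' y = 0
      rw [hoe, sub_self]
    have hNh : ∀ y, ∃ w, N (pt' h' y) = pt' e' w := fun y => by
      obtain ⟨w, hw⟩ := hoh y
      exact ⟨w, by show o.1 (pt' h' y) - pt' h' y = _; rw [hw, add_sub_cancel_left]⟩
    have hNp : ∀ z, hS'.pU e' (N z) = 0 := fun z => hS'.eqW fun w => by
      show polar QW' (hS'.pU e' (o.1 z - z)) w = _
      rw [hS'.polar_pU, polar_zero_left, polar_sub_right]
      conv_lhs => arg 1; rw [← hoe w, polar_oG]
      exact sub_self _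
    have hN3 : N ^ 3 = 0 := LinearMap.ext fun z => by
      rw [pow_succ', pow_succ', pow_one, Module.End.mul_apply, Module.End.mul_apply]
      have hNN : ∀ z, hS'.pU e' z = 0 → ∃ w, N z = pt' e' w := fun z hz => by
        rw [hS'.decompV fr' z, hz, map_zero, add_zero, map_add, hNe, zero_add]
        exact hNh _
      obtain ⟨w, hw⟩ := hNN (N z) (hNp z)
      rw [hw, hNe]
      rfl
    have hop : o ^ p = 1 := by
      haveI : Nontrivial (Module.End F V) := by
        haveI : Nontrivial W' := Module.nontrivial_of_finrank_pos (R := F) (by rw [hS'.dimW]; norm_num)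
        haveI : Nontrivial V := Function.Injective.nontrivial (f := fun y => pt' e' y) (fun y y' e0 => hS'.pt_inj fr'.e_ne e0)
        infer_instance
      haveI : CharP (Module.End F V) p :=
        charP_of_injective_ringHom (R := F) (algebraMap F (Module.End F V)).injective p
      have hN : N ^ p = 0 := by rw [show p = 3 + (p - 3) by omega, pow_add, hN3, zero_mul]
      have h1 : ((o.1 : V →ₗ[F] V) : Module.End F V) ^ p = 1 := by
        rw [show (o.1 : V →ₗ[F] V) = 1 + N by simp [N],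
          add_pow_char_of_commute (R := Module.End F V) p (Commute.one_left _), one_pow, hN, add_zero]
      have hpow : ∀ (k : ℕ) (z : V), (o ^ k).1 z = ((o.1 : V →ₗ[F] V) ^ k : Module.End F V) z := by
        intro k
        induction k with
        | zero => intro z; rfl
        | succ k ih => intro z; rw [pow_succ', pow_succ', oG_mul_apply, ih]; rfl
      exact ext_oG fun z => by rw [hpow, h1]; rfl
    obtain ⟨k, hk⟩ := odd_char (F := F) (p := p) hS.triU
    have e1 : o = o ^ (k + 1) * o ^ (k + 1) := by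
      rw [← pow_add, show k + 1 + (k + 1) = p + 1 by omega, pow_succ, hop, one_mul]
    rw [e1]
    refine Exc.sq_mem_commutator hS.nd hS.two ?_ _
    have hi : Function.Injective (pt e) := fun y y' e' => hS.pt_inj fr.e_ne e'
    have := LinearMap.finrank_le_finrank_of_injective hi
    rw [hS.dimW] at this
    omega
  have hn0M : Maps pt' pt n0.1 := ⟨a0, A, hn0⟩
  have hn0H : n0 ∈ H := hnorm _ (by
    have : n0 = n * o⁻¹ := by simp [o]
    rw [this]
    exact mul_mem (hle hn) (inv_mem hoC)) (hNS _ hn0M)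
  obtain ⟨t, ht⟩ := hS'.rad_eq hN' hO' fr' (mul_mem (inv_mem hn0H) hn) hoe hoh
  have e2 : n = n0 * hS'.uL fr' t := by rw [← ht, mul_inv_cancel_left]
  rw [e2]
  exact hn0M.comp ⟨(tr3 fr' t).1, LinearMap.id, fun x y => by rw [hS'.uL_pt]; rfl⟩

end Setting

end Cfsg.Agent.ClassicalMax.OTensor3
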