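import Cfsg.Agent.Classical.ExcCore
import Cfsg.Agent.Classical.OrthEichler
import Cfsg.Agent.Classical.QuadDecomp
import Cfsg.Agent.Classical.QuadOrder
import Mathlib.Algebra.CharP.Two

/-!
A non-degenerate ternary quadratic form over a finite field of odd order at least five: frames, the unipotent
one-parameter groups, unipotent isometries, skew maps and their brackets.
-/

set_option autoImplicit false
set_option linter.unusedSectionVars false
set_option linter.style.haveILetI false

namespace Cfsg.Agent.ClassicalMax.OTensor3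

open Module QuadraticMap Cfsg.Agent.Classical Cfsg.Agent.Classical.Quad

variable {F U : Type*} [Field F] [AddCommGroup U] [Module F U] [FiniteDimensional F U] {R : QuadraticForm F U}
  {e f h : U}

/-- the conditions on the form -/
structure Tri (R : QuadraticForm F U) : Prop where
  two : (2 : F) ≠ 0
  nd : (polarBilin R).Nondegenerate
  dim : finrank F U = 3
  q5 : 5 ≤ Nat.card F

/-- a hyperbolic pair and a vector orthogonal to it -/
structure Fr (R : QuadraticForm F U) (e f h : U) : Prop where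
  he : R e = 0
  hf : R f = 0
  hef : polar R e f = 1
  heh : polar R e h = 0
  hfh : polar R f h = 0
  hh : R h ≠ 0

namespace Fr

theorem e_ne (fr : Fr R e f h) : e ≠ 0 := fun e' => by
  have := fr.hef; rw [e'] at this; simp [polar] at this

theorem h_ne (fr : Fr R e f h) : h ≠ 0 := fun e' => fr.hh (by rw [e', map_zero])

theorem two_mul_ne (fr : Fr R e f h) (hT : Tri R) : 2 * R h ≠ 0 := mul_ne_zero hT.two fr.hh

theorem symm (fr : Fr R e f h) : Fr R f e h :=
  ⟨fr.hf, fr.he, by rw [polar_comm, fr.hef], fr.hfh, fr.heh, fr.hh⟩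

theorem map (fr : Fr R e f h) (k : oG R) : Fr R (k.1 e) (k.1 f) (k.1 h) where
  he := by rw [k.2, fr.he]
  hf := by rw [k.2, fr.hf]
  hef := by rw [polar_oG, fr.hef]
  heh := by rw [polar_oG, fr.heh]
  hfh := by rw [polar_oG, fr.hfh]
  hh := by rw [k.2]; exact fr.hh

theorem vals (fr : Fr R e f h) : polar R e e = 0 ∧ polar R f f = 0 ∧ polar R h h = 2 * R h ∧ polar R f e = 1 ∧
    polar R h e = 0 ∧ polar R h f = 0 :=
  ⟨by rw [polar_self', fr.he, mul_zero], by rw [polar_self', fr.hf, mul_zero], polar_self' h,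
    by rw [polar_comm, fr.hef], by rw [polar_comm, fr.heh], by rw [polar_comm, fr.hfh]⟩

theorem eval (fr : Fr R e f h) (a b c : F) :
    polar R e (a • e + b • f + c • h) = b ∧ polar R f (a • e + b • f + c • h) = a ∧
      polar R h (a • e + b • f + c • h) = 2 * R h * c ∧
      R (a • e + b • f + c • h) = a * b + c * c * R h := by
  obtain ⟨v1, v2, v3, v4, v5, v6⟩ := fr.vals
  refine ⟨?_, ?_, ?_, ?_⟩
  · simp [polar_add_right, polar_smul_right, v1, fr.hef, fr.heh]
  · simp [polar_add_right, polar_smul_right, v2, v4, fr.hfh]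
  · simp only [polar_add_right, polar_smul_right, v3, v5, v6, smul_eq_mul]
    ring
  · simp only [map_add', Quad.map_smul', polar_add_left, polar_smul_left, polar_smul_right, fr.he, fr.hf, fr.hef,
      fr.heh, fr.hfh, smul_eq_mul]
    ring

theorem decomp (fr : Fr R e f h) (hT : Tri R) (x : U) :
    x = polar R f x • e + polar R e x • f + (polar R h x / (2 * R h)) • h := by
  have hli : LinearIndependent F ![e, f, h] := by
    rw [Fintype.linearIndependent_iff]
    intro g hg
    have e' : g 0 • e + g 1 • f + g 2 • h = 0 := by simpa [Fin.sum_univ_three] using hg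
    obtain ⟨e1, e2, e3, -⟩ := fr.eval (g 0) (g 1) (g 2)
    rw [e'] at e1 e2 e3
    simp only [polar_zero_right] at e1 e2 e3
    have e4 : g 2 = 0 := (mul_eq_zero.1 e3.symm).resolve_left (fr.two_mul_ne hT)
    intro i
    fin_cases i <;> simp [← e1, ← e2, e4]
  have hsp := hli.span_eq_top_of_card_eq_finrank (by rw [hT.dim]; rfl)
  have hx : x ∈ Submodule.span F (Set.range ![e, f, h]) := hsp ▸ Submodule.mem_top
  obtain ⟨g, hg⟩ := (Submodule.mem_span_range_iff_exists_fun F).1 hx
  have e' : x = g 0 • e + g 1 • f + g 2 • h := by rw [← hg]; simp [Fin.sum_univ_three]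
  obtain ⟨e1, e2, e3, -⟩ := fr.eval (g 0) (g 1) (g 2)
  rw [← e'] at e1 e2 e3
  rw [e1, e2, e3, mul_div_cancel_left₀ _ (fr.two_mul_ne hT)]
  exact e'

theorem ext (fr : Fr R e f h) (hT : Tri R) {M : Type*} [AddCommGroup M] [Module F M] {A B : U →ₗ[F] M}
    (h1 : A e = B e) (h2 : A f = B f) (h3 : A h = B h) : A = B := LinearMap.ext fun x => by
  rw [fr.decomp hT x]
  simp only [map_add, map_smul, h1, h2, h3]

/-- a singular vector orthogonal to the first vector is a multiple of it -/
theorem cone_perp (fr : Fr R e f h) (hT : Tri R) {x : U} (hx : R x = 0) (hex : polar R e x = 0) :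
    x = polar R f x • e := by
  have e' := fr.decomp hT x
  rw [hex, zero_smul, add_zero] at e'
  have h4 := (fr.eval (polar R f x) 0 (polar R h x / (2 * R h))).2.2.2
  rw [zero_smul, add_zero, ← e', hx, mul_zero, zero_add, eq_comm, mul_eq_zero, or_iff_left fr.hh,
    mul_self_eq_zero] at h4
  rwa [h4, zero_smul, add_zero] at e'

end Fr

theorem exists_fr_pair [Finite F] (hT : Tri R) {e f : U} (he : R e = 0) (hf : R f = 0) (hef : polar R e f = 1) :
    ∃ h, Fr R e f h := by
  obtain ⟨h, h1, h2, h3⟩ := exists_aniso_perp hT.nd (by rw [hT.dim]) he hf hef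
  exact ⟨h, he, hf, hef, h1, h2, h3⟩

theorem exists_fr_of [Finite F] (hT : Tri R) {e : U} (he0 : e ≠ 0) (he : R e = 0) : ∃ f h, Fr R e f h := by
  obtain ⟨f, hf, hef⟩ := exists_hyp_pair hT.nd he0 he
  exact ⟨f, exists_fr_pair hT he hf hef⟩

theorem exists_fr [Finite F] (hT : Tri R) : ∃ e f h, Fr R e f h := by
  obtain ⟨e, he0, he⟩ := exists_singular R (by rw [hT.dim])
  exact ⟨e, exists_fr_of hT he0 he⟩

/-! ### the one-parameter unipotent group of a frame -/

/-- the unipotent element of parameter `t` -/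
def tr3 (fr : Fr R e f h) (t : F) : oG R := sO fr.he (polar_perp_smul fr.heh t)

section tr3

variable (fr : Fr R e f h)

theorem tr3_apply (t : F) (x : U) : (tr3 fr t).1 x =
    x + (t * polar R x h - t * t * R h * polar R e x) • e - (t * polar R e x) • h := by
  rw [tr3, sO_apply, Quad.map_smul', polar_smul_right, smul_eq_mul, polar_comm R x e]
  module

theorem tr3_e (t : F) : (tr3 fr t).1 e = e := by
  obtain ⟨v1, -, -, -, -, -⟩ := fr.vals
  rw [tr3_apply, fr.heh, v1]
  simp

theorem tr3_h (t : F) : (tr3 fr t).1 h = h + (2 * R h * t) • e := by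
  obtain ⟨-, -, v3, -, -, -⟩ := fr.vals
  rw [tr3_apply, fr.heh, v3]
  simp only [mul_zero, sub_zero, zero_smul]
  module

theorem tr3_f (t : F) : (tr3 fr t).1 f = f - (R h * t * t) • e - t • h := by
  rw [tr3_apply, fr.hfh, fr.hef]
  module

theorem tr3_add (s t : F) : tr3 fr s * tr3 fr t = tr3 fr (s + t) := by
  rw [tr3, tr3, sO_mul, tr3]
  exact sO_congr _ _ _ (add_smul s t h).symm

theorem tr3_zero : tr3 fr 0 = 1 := by
  rw [tr3, sO_congr fr.he _ (by simp [polar]) (zero_smul F h), sO_zero]

theorem tr3_inv (t : F) : (tr3 fr t)⁻¹ = tr3 fr (-t) :=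
  inv_eq_of_mul_eq_one_right (by rw [tr3_add, add_neg_cancel, tr3_zero])

theorem tr3_pow (t : F) (n : ℕ) : tr3 fr t ^ n = tr3 fr ((n : F) * t) := by
  induction n with
  | zero => rw [pow_zero, Nat.cast_zero, zero_mul, tr3_zero]
  | succ n ih => rw [pow_succ, ih, tr3_add, Nat.cast_succ, add_mul, one_mul]

theorem tr3_fixed (hT : Tri R) {t : F} (ht : t ≠ 0) {x : U} (hx : (tr3 fr t).1 x = x) : x = polar R f x • e := by
  rw [tr3_apply] at hx
  have e' : (t * polar R x h - t * t * R h * polar R e x) • e + (0 : F) • f + (-(t * polar R e x)) • h = 0 := by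
    linear_combination (norm := module) hx
  obtain ⟨-, e2, e3, -⟩ := fr.eval (t * polar R x h - t * t * R h * polar R e x) 0 (-(t * polar R e x))
  rw [e', polar_zero_right] at e2 e3
  have hb : polar R e x = 0 := by
    have := (mul_eq_zero.1 e3.symm).resolve_left (fr.two_mul_ne hT)
    exact (mul_eq_zero.1 (neg_eq_zero.1 this)).resolve_left ht
  rw [hb, mul_zero, sub_zero, eq_comm, polar_comm] at e2
  have hw0 := (mul_eq_zero.1 e2).resolve_left ht
  conv_lhs => rw [fr.decomp hT x, hb, hw0, zero_smul, zero_div, zero_smul, add_zero, add_zero]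

theorem tr3_inj (hT : Tri R) {s t : F} (h' : tr3 fr s = tr3 fr t) : s = t := by
  have h1 := congrArg (fun g : oG R => polar R f (g.1 h)) h'
  simp only [tr3_h, polar_add_right, polar_smul_right, fr.vals.2.2.2.1, smul_eq_mul, mul_one] at h1
  exact mul_left_cancel₀ (fr.two_mul_ne hT) (add_left_cancel h1)

theorem tr3_mem [Finite F] (hT : Tri R) (t : F) : tr3 fr t ∈ commutator (oG R) :=
  sO_mem_commutator hT.nd (Or.inr (by rw [hT.dim]; norm_num)) _ _

end tr3

/-- isotropic lines are conjugate under the commutator subgroup -/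
theorem trans_line [Finite F] (hT : Tri R) {e e' : U} (he0 : e ≠ 0) (he : R e = 0) (he0' : e' ≠ 0) (he' : R e' = 0) :
    ∃ k ∈ commutator (oG R), ∃ t : F, t ≠ 0 ∧ k.1 e = t • e' := by
  obtain ⟨f₀, h₀, fr₀⟩ := exists_fr_of hT he0 he
  rcases eq_or_ne (polar R e e') 0 with hp | hp
  · have e1 := fr₀.cone_perp hT he' hp
    have hne : polar R f₀ e' ≠ 0 := fun e2 => he0' (by rw [e1, e2, zero_smul])
    refine ⟨1, one_mem _, (polar R f₀ e')⁻¹, inv_ne_zero hne, ?_⟩
    rw [oG_one_apply]
    conv_rhs => arg 2; rw [e1]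
    rw [smul_smul, inv_mul_cancel₀ hne, one_smul]
  · obtain ⟨h, fr⟩ := exists_fr_pair hT he (f := (polar R e e')⁻¹ • e') (by rw [Quad.map_smul', he', mul_zero])
      (by rw [polar_smul_right, smul_eq_mul, inv_mul_cancel₀ hp])
    refine ⟨tr3 fr (R h)⁻¹ * tr3 fr.symm 1, mul_mem (tr3_mem fr hT _) (tr3_mem _ hT _),
      -R h * (polar R e e')⁻¹, mul_ne_zero (neg_ne_zero.2 fr.hh) (inv_ne_zero hp), ?_⟩
    rw [oG_mul_apply, tr3_f fr.symm, map_sub, map_sub, tr3_e, map_smul, tr3_f, map_smul, tr3_h]
    have := fr.hh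
    match_scalars <;> field_simp <;> ring

/-- the torus of a frame -/
theorem torus3 [Finite F] (hT : Tri R) (fr : Fr R e f h) {c : F} (hc : c ≠ 0) :
    ∃ k ∈ commutator (oG R), k.1 e = (c * c) • e ∧ k.1 f = (c * c)⁻¹ • f ∧ k.1 h = h := by
  have hu : R h ≠ 0 := fr.hh
  have hu' : R (c • h) ≠ 0 := by rw [Quad.map_smul']; exact mul_ne_zero (mul_ne_zero hc hc) hu
  have hC : ∀ {p w : U} (hp : R p = 0) (hpw : polar R p w = 0), sO hp hpw ∈ commutator (oG R) := fun hp hpw =>
    sO_mem_commutator hT.nd (Or.inr (by rw [hT.dim]; norm_num)) hp hpw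
  have wm : ∀ {u : U} (h1 : polar R e u = 0) (h2 : polar R f u = 0) (h3 : R u ≠ 0),
      rPair fr.he fr.hf fr.hef h3 * rO h3 ∈ commutator (oG R) := fun h1 h2 h3 => by
    rw [← weyl_eq fr.he fr.hf fr.hef h1 h2 h3]
    exact mul_mem (mul_mem (hC _ _) (hC _ _)) (hC _ _)
  refine ⟨_, mul_mem (wm (polar_perp_smul fr.heh c) (polar_perp_smul fr.hfh c) hu') (wm fr.heh fr.hfh hu), ?_, ?_, ?_⟩
  all_goals
    simp only [rPair, oG_mul_apply, rO_apply, Q_pair fr.he fr.hf fr.hef, polar_add_right, polar_add_left,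
      polar_smul_right, polar_smul_left, polar_sub_left, smul_eq_mul, polar_self', Quad.map_smul', fr.he, fr.hf, fr.hef,
      fr.heh, fr.hfh, polar_comm R f e, polar_comm R h e, polar_comm R h f]
    match_scalars <;> field_simp <;> ring

/-- an isometry fixing the first and the third vector of a frame is trivial -/
theorem eq_one_of_fix (hT : Tri R) (fr : Fr R e f h) {g : oG R} (h1 : g.1 e = e) (h2 : g.1 h = h) : g = 1 := by
  obtain ⟨e1, -, e3, e4⟩ := fr.eval (polar R f (g.1 f)) (polar R e (g.1 f)) (polar R h (g.1 f) / (2 * R h))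
  rw [← fr.decomp hT (g.1 f)] at e1 e3 e4
  have k1 : polar R e (g.1 f) = 1 := by
    conv_lhs => rw [← h1, polar_oG, fr.hef]
  have k3 : polar R h (g.1 f) = 0 := by
    conv_lhs => rw [← h2, polar_oG, fr.vals.2.2.2.2.2]
  rw [g.2, fr.hf, k1, k3, zero_div, mul_zero, zero_mul, add_zero, mul_one, eq_comm] at e4
  have hgf : g.1 f = f := by
    rw [fr.decomp hT (g.1 f), e4, k1, k3, zero_div, zero_smul, zero_smul, one_smul, zero_add, add_zero]
  exact ext_oG fun x => LinearMap.congr_fun
    (fr.ext hT (A := (g.1 : U →ₗ[F] U)) (B := ((1 : oG R).1 : U →ₗ[F] U)) h1 hgf h2) x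

section CharP

variable {p : ℕ} [hp : Fact p.Prime] [CharP F p]

theorem odd_char (hT : Tri R) : Odd p := hp.out.odd_of_ne_two fun e => hT.two (by
  subst e
  exact CharP.ofNat_eq_zero F 2)

theorem tr3_order (fr : Fr R e f h) (t : F) : tr3 fr t ^ p = 1 := by
  rw [tr3_pow, CharP.cast_eq_zero F p, zero_mul, tr3_zero]

theorem sq_one_of_pow (hT : Tri R) {c : F} (h1 : c ^ p = 1) : c = 1 := by
  haveI : ExpChar F p := ExpChar.prime hp.out
  have : (c - 1) ^ p = 0 := by rw [sub_pow_char, h1, one_pow, sub_self]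
  exact sub_eq_zero.1 (pow_eq_zero_iff hp.out.ne_zero |>.1 this)

/-- an isometry of order dividing `p` fixes a non-zero singular vector -/
theorem exists_fixed [Finite F] (hT : Tri R) {g : oG R} (hg : g ^ p = 1) :
    ∃ e, e ≠ 0 ∧ R e = 0 ∧ g.1 e = e := by
  by_cases hg1 : g = 1
  · obtain ⟨e, he0, he⟩ := exists_singular R (by rw [hT.dim])
    exact ⟨e, he0, he, by rw [hg1, oG_one_apply]⟩
  haveI : Finite U := Module.finite_of_finite F
  let N : Module.End F U := (g.1 : U →ₗ[F] U) - 1
  have hpow : ∀ (n : ℕ) (x : U), (g ^ n).1 x = ((g.1 : U →ₗ[F] U) ^ n : Module.End F U) x := by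
    intro n
    induction n with
    | zero => intro x; rfl
    | succ n ih => intro x; rw [pow_succ', pow_succ', oG_mul_apply, ih]; rfl
  have hN : N ^ p = 0 := by
    haveI : Nontrivial (Module.End F U) := by
      haveI : Nontrivial U := Module.nontrivial_of_finrank_pos (R := F) (by rw [hT.dim]; norm_num)
      infer_instance
    haveI : CharP (Module.End F U) p :=
      charP_of_injective_ringHom (R := F) (algebraMap F (Module.End F U)).injective p
    rw [show N = (g.1 : U →ₗ[F] U) - 1 from rfl, sub_pow_char_of_commute (R := Module.End F U) p (Commute.one_right _),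
      one_pow, sub_eq_zero]
    exact LinearMap.ext fun x => by rw [← hpow, hg]; rfl
  have hfix : ∀ W : Submodule F U, W ≠ ⊥ → (∀ x ∈ W, N x ∈ W) → ∃ x ∈ W, x ≠ 0 ∧ g.1 x = x := by
    intro W hW hst
    obtain ⟨x, hx, hx0⟩ := Submodule.exists_mem_ne_zero_of_ne_bot hW
    have hex : ∃ n, (N ^ n) x = 0 := ⟨p, by rw [hN]; rfl⟩
    classical
    have hn : (N ^ Nat.find hex) x = 0 := Nat.find_spec hex
    rcases eq_or_ne (Nat.find hex) 0 with e0 | e0
    · rw [e0] at hn; exact absurd hn hx0
    obtain ⟨m, hm⟩ := Nat.exists_eq_succ_of_ne_zero e0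
    refine ⟨(N ^ m) x, ?_, Nat.find_min hex (by omega), ?_⟩
    · clear hn hm
      induction m with
      | zero => exact hx
      | succ m ih => rw [pow_succ']; exact hst _ ih
    · rw [hm, pow_succ'] at hn
      exact sub_eq_zero.1 hn
  obtain ⟨v, -, hv0, hv⟩ := hfix ⊤ (fun e => by
    have h3 := congrArg (fun W : Submodule F U => finrank F W) e
    simp only [finrank_top, finrank_bot, hT.dim] at h3
    omega) fun _ _ => Submodule.mem_top
  by_cases hv' : R v = 0
  · exact ⟨v, hv0, hv', hv⟩
  set W : Submodule F U := LinearMap.ker (polarBilin R v)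
  have hW : ∀ x, x ∈ W ↔ polar R v x = 0 := fun x => Iff.rfl
  have hWd : 2 ≤ finrank F W := by
    have h1 := LinearMap.finrank_range_add_finrank_ker (polarBilin R v)
    have h2 := Submodule.finrank_le (LinearMap.range (polarBilin R v))
    rw [finrank_self] at h2
    rw [hT.dim] at h1
    show 2 ≤ finrank F (LinearMap.ker (polarBilin R v))
    omega
  obtain ⟨w, hw, hw0, hwf⟩ := hfix W (fun e => by rw [e, finrank_bot] at hWd; omega) fun x hx => by
    rw [hW] at hx ⊢
    show polar R v (g.1 x - x) = 0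
    conv_lhs => rw [polar_sub_right]; arg 1; rw [← hv, polar_oG]
    exact sub_self _
  by_cases hw' : R w = 0
  · exact ⟨w, hw0, hw', hwf⟩
  -- a pair of anisotropic fixed vectors
  exfalso
  apply hg1
  rw [hW] at hw
  set D : U →ₗ[F] F × F := (polarBilin R v).prod (polarBilin R w)
  have hD : LinearMap.ker D ≠ ⊥ := fun e => by
    have h1 := LinearMap.finrank_range_add_finrank_ker D
    have h2 := Submodule.finrank_le (LinearMap.range D)
    rw [Module.finrank_prod, finrank_self] at h2
    rw [e, finrank_bot, hT.dim] at h1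
    omega
  obtain ⟨z, hz, hz0⟩ := Submodule.exists_mem_ne_zero_of_ne_bot hD
  have hz : polar R v z = 0 ∧ polar R w z = 0 := by
    have := LinearMap.mem_ker.1 hz
    exact ⟨congrArg Prod.fst this, congrArg Prod.snd this⟩
  obtain ⟨-, n3⟩ : polar R v v ≠ 0 ∧ polar R w w ≠ 0 := by
    rw [polar_self', polar_self']
    exact ⟨mul_ne_zero hT.two hv', mul_ne_zero hT.two hw'⟩
  have hli : LinearIndependent F ![v, w, z] := by
    rw [Fintype.linearIndependent_iff]
    intro c hc
    have e' : c 0 • v + c 1 • w + c 2 • z = 0 := by simpa [Fin.sum_univ_three] using hc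
    have a1 := congrArg (polar R v) e'
    have a2 := congrArg (polar R w) e'
    rw [polar_add_right, polar_add_right, polar_smul_right, polar_smul_right, polar_smul_right, hw, hz.1,
      polar_zero_right] at a1
    rw [polar_add_right, polar_add_right, polar_smul_right, polar_smul_right, polar_smul_right, polar_comm R w v, hw,
      hz.2, polar_zero_right] at a2
    simp only [smul_eq_mul, mul_zero, add_zero, zero_add, mul_eq_zero] at a1 a2
    have c0 : c 0 = 0 := a1.resolve_right (by rw [polar_self']; exact mul_ne_zero hT.two hv')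
    have c1 : c 1 = 0 := a2.resolve_right n3
    rw [c0, c1, zero_smul, zero_smul, zero_add, zero_add, smul_eq_zero] at e'
    intro i
    fin_cases i <;> simp [c0, c1, e'.resolve_right hz0]
  have hsp := hli.span_eq_top_of_card_eq_finrank (by rw [hT.dim]; rfl)
  obtain ⟨c, hc⟩ : ∃ c : F, g.1 z = c • z := by
    have hm : g.1 z ∈ Submodule.span F (Set.range ![v, w, z]) := hsp ▸ Submodule.mem_top
    obtain ⟨c, hc⟩ := (Submodule.mem_span_range_iff_exists_fun F).1 hm
    have e' : g.1 z = c 0 • v + c 1 • w + c 2 • z := by rw [← hc]; simp [Fin.sum_univ_three]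
    have a1 := congrArg (polar R v) e'
    have a2 := congrArg (polar R w) e'
    conv_lhs at a1 => arg 2; rw [← hv]
    conv_lhs at a2 => arg 2; rw [← hwf]
    rw [polar_oG, hz.1, polar_add_right, polar_add_right, polar_smul_right, polar_smul_right, polar_smul_right, hw,
      hz.1, eq_comm] at a1
    rw [polar_oG, hz.2, polar_add_right, polar_add_right, polar_smul_right, polar_smul_right, polar_smul_right,
      polar_comm R w v, hw, hz.2, eq_comm] at a2
    simp only [smul_eq_mul, mul_zero, add_zero, zero_add, mul_eq_zero] at a1 a2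
    exact ⟨c 2, by rw [e', a1.resolve_right (by rw [polar_self']; exact mul_ne_zero hT.two hv'),
      a2.resolve_right n3, zero_smul, zero_smul, zero_add, zero_add]⟩
  have hcp : ∀ n : ℕ, (g ^ n).1 z = c ^ n • z := by
    intro n
    induction n with
    | zero => rw [pow_zero, pow_zero, one_smul, oG_one_apply]
    | succ n ih => rw [pow_succ', oG_mul_apply, ih, map_smul, hc, smul_smul, ← pow_succ]
  have h1 := hcp p
  rw [hg, oG_one_apply] at h1
  have hc1 : c = 1 := sq_one_of_pow hT (smul_left_injective F hz0 (by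
    show c ^ p • z = (1 : F) • z
    rw [one_smul, ← h1]))
  refine ext_oG fun x => ?_
  have hx : x ∈ Submodule.span F (Set.range ![v, w, z]) := hsp ▸ Submodule.mem_top
  obtain ⟨d, hd⟩ := (Submodule.mem_span_range_iff_exists_fun F).1 hx
  have e' : x = d 0 • v + d 1 • w + d 2 • z := by rw [← hd]; simp [Fin.sum_univ_three]
  rw [e', oG_one_apply, map_add, map_add, map_smul, map_smul, map_smul, hv, hwf, hc, hc1, one_smul]

/-- an isometry of order dividing `p` fixing the first vector of a frame is unipotent of that frame -/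
theorem eq_tr3 (hT : Tri R) (fr : Fr R e f h) {g : oG R} (hg : g ^ p = 1) (hge : g.1 e = e) :
    ∃ t, g = tr3 fr t := by
  have hperp : ∀ x, polar R e x = 0 → polar R e (g.1 x) = 0 := fun x hx => by
    conv_lhs => rw [← hge, polar_oG, hx]
  obtain ⟨-, -, -, e4⟩ := fr.eval (polar R f (g.1 h)) 0 (polar R h (g.1 h) / (2 * R h))
  have hd := fr.decomp hT (g.1 h)
  rw [hperp h fr.heh, zero_smul, add_zero] at hd
  rw [zero_smul, add_zero, ← hd, g.2, mul_zero, zero_add] at e4
  set a := polar R f (g.1 h)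
  set c := polar R h (g.1 h) / (2 * R h)
  have hc : c * c = 1 := mul_right_cancel₀ fr.hh (by rw [one_mul]; exact e4.symm)
  have hpow : ∀ n : ℕ, ∃ b : F, (g ^ n).1 h = b • e + c ^ n • h := by
    intro n
    induction n with
    | zero => exact ⟨0, by rw [pow_zero, pow_zero, oG_one_apply, zero_smul, one_smul, zero_add]⟩
    | succ n ih =>
      obtain ⟨b, hb⟩ := ih
      exact ⟨b + c ^ n * a, by rw [pow_succ', oG_mul_apply, hb, map_add, map_smul, map_smul, hge, hd, pow_succ']; module⟩
  have hc1 : c = 1 := by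
    obtain ⟨b, hb⟩ := hpow p
    rw [hg, oG_one_apply] at hb
    have h1 := congrArg (polar R h) hb
    obtain ⟨-, -, v3, -, v5, -⟩ := fr.vals
    rw [polar_add_right, polar_smul_right, polar_smul_right, v3, v5, smul_zero, zero_add, smul_eq_mul] at h1
    exact sq_one_of_pow hT (mul_right_cancel₀ (fr.two_mul_ne hT) (by rw [one_mul]; exact h1.symm))
  refine ⟨a / (2 * R h), ?_⟩
  have hinv : (tr3 fr (a / (2 * R h)))⁻¹ * g = 1 := by
    refine eq_one_of_fix hT fr ?_ ?_
    · rw [oG_mul_apply, hge, tr3_inv, tr3_e]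
    · rw [oG_mul_apply, hd, hc1, one_smul, map_add, map_smul, tr3_inv, tr3_e, tr3_h, mul_neg,
        mul_div_cancel₀ _ (fr.two_mul_ne hT)]
      module
  exact (inv_mul_eq_one.1 hinv).symm

end CharP

end Cfsg.Agent.ClassicalMax.OTensor3
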